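import Cfsg.Agent.SpAmalgam18.Base

/-!
All pairs: the symplectic group is the universal completion of the amalgam.
-/

set_option autoImplicit false

namespace Cfsg.Agent.SpAmalgam18

open Cfsg Cfsg.Agent.Symplectic

variable {m : ℕ} {F : Type*} [Field F] {G : Type*} [Group G]

/-- the pairs from `k` on -/
def tail (m k : ℕ) : Finset (Fin m) := Finset.univ.filter fun i => k ≤ (i : ℕ)

theorem mem_tail {k : ℕ} {i : Fin m} : i ∈ tail m k ↔ k ≤ (i : ℕ) := by simp [tail]

theorem erase_tail (i : Fin m) : (tail m (i : ℕ)).erase i = tail m ((i : ℕ) + 1) := by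
  ext j
  simp only [Finset.mem_erase, mem_tail, ne_eq, Fin.ext_iff]
  omega

theorem insert_tail (i : Fin m) : insert i (tail m ((i : ℕ) + 1)) = tail m (i : ℕ) := by
  ext j
  simp only [Finset.mem_insert, mem_tail, Fin.ext_iff]
  omega

theorem Sys.good_tail (P : Sys F m G) (h3 : ∃ a : F, a ≠ 0 ∧ a ≠ 1) :
    ∀ (d k : ℕ), k + d + 1 = m → P.Good (tail m k) := by
  intro d
  induction d using Nat.strong_induction_on with
  | _ d ih =>
    intro k hk
    set p : Fin m := ⟨k, by omega⟩ with hp
    match d, hk, ih with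
    | 0, hk, _ =>
      have : tail m k = {p} := by
        ext j
        simp only [mem_tail, Finset.mem_singleton, Fin.ext_iff, hp]
        omega
      rw [this]
      exact Sys.good_singleton p
    | 1, hk, _ =>
      set q : Fin m := ⟨k + 1, by omega⟩ with hq
      have : tail m k = {p, q} := by
        ext j
        simp only [mem_tail, Finset.mem_insert, Finset.mem_singleton, Fin.ext_iff, hp, hq]
        omega
      rw [this]
      exact Sys.good_pair (Or.inl rfl)
    | e + 2, hk, ih =>
      set q : Fin m := ⟨k + 1, by omega⟩ with hq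
      set r : Fin m := ⟨k + 2, by omega⟩ with hr
      have hI : P.Good (tail m (k + 1)) := ih (e + 1) (by omega) (k + 1) (by omega)
      have hJ : P.Good ((tail m (k + 1)).erase q) := by
        have := ih e (by omega) (k + 2) (by omega)
        rwa [show (tail m (k + 1)).erase q = tail m (k + 2) from erase_tail q]
      set L := Sys.linkStep P (p := p) (q := q) (r := r) (I := tail m (k + 1)) (Or.inl rfl)
        (Or.inl rfl) (mem_tail.2 le_rfl) (mem_tail.2 (Nat.le_succ _))
        (fun h => Nat.not_succ_le_self k (mem_tail.1 h)) hI hJ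
      set R : Inner L := ⟨r, Or.inl rfl, mem_tail.2 (Nat.le_succ _), hJ, h3⟩
      have := R.good_step (Sys.good_pair L.adj) fun j hj ha => by
        have hj' := mem_tail.1 (show j ∈ tail m (k + 1) from hj)
        apply Fin.ext
        show (j : ℕ) = k + 1
        rcases ha with ha | ha
        · exact ha.symm
        · change (j : ℕ) + 1 = k at ha; omega
      exact (insert_tail p) ▸ this

theorem Sys.good_univ (P : Sys F m G) (h3 : ∃ a : F, a ≠ 0 ∧ a ≠ 1) (hm : 1 ≤ m) :
    P.Good Finset.univ := by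
  have := P.good_tail h3 (m - 1) 0 (by omega)
  rwa [show tail m 0 = Finset.univ from by ext; simp [tail]] at this

theorem mTv_eq {i j : Fin m} (hij : i ≠ j) {x : Sp m F}
    (he : ∀ k, x • (eI k : Vec m F) = eI k)
    (hf : ∀ k, k ≠ i → k ≠ j → x • (fI k : Vec m F) = fI k) : x ∈ mTv i j := by
  have hl : ∀ l : Fin m, l = i ∨ l = j → x • (fI l : Vec m F) = fI l +
      (x • (fI l : Vec m F)) (Sum.inl i) • eI i + (x • (fI l : Vec m F)) (Sum.inl j) • eI j := by
    intro l hl
    funext c
    rcases c with k | k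
    · by_cases h1 : k = i
      · subst h1; simp [eI, fI, hij]
      by_cases h2 : k = j
      · subst h2; simp [eI, fI, Ne.symm hij]
      have : (x • (fI l : Vec m F)) (Sum.inl k) = 0 := by
        rw [← sympForm_fI_left k (x • (fI l : Vec m F)), ← hf k h1 h2, sympForm_smul_smul,
          sympForm_fI_fI]
      rw [this]
      simp [eI, fI, h1, h2]
    · have : (x • (fI l : Vec m F)) (Sum.inr k) = (fI l : Vec m F) (Sum.inr k) := by
        rw [← sympForm_eI_right k (x • (fI l : Vec m F)), ← he k, sympForm_smul_smul,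
          sympForm_eI_right]
      simp [eI, this]
  have hsym : (x • (fI i : Vec m F)) (Sum.inl j) = (x • (fI j : Vec m F)) (Sum.inl i) := by
    have h := sympForm_smul_smul x (fI i) (fI j)
    rw [hl i (Or.inl rfl), hl j (Or.inr rfl)] at h
    simp only [sympForm_add_left, sympForm_add_right, sympForm_smul_left, sympForm_smul_right,
      sympForm_fI_fI, sympForm_eI_eI, sympForm_fI_eI, sympForm_eI_fI, sympForm_eI_fI_of_ne hij,
      sympForm_eI_fI_of_ne (Ne.symm hij), sympForm_fI_eI_of_ne hij,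
      sympForm_fI_eI_of_ne (Ne.symm hij)] at h
    linear_combination -h
  set a := (x • (fI i : Vec m F)) (Sum.inl i)
  set b := (x • (fI i : Vec m F)) (Sum.inl j)
  set d := (x • (fI j : Vec m F)) (Sum.inl j)
  have hx : x = tv ((1 : F) • eI i + (1 : F) • eI j) b * tv (eI i) (a - b) * tv (eI j) (d - b) := by
    refine eq_of_fix fun k => ⟨?_, ?_⟩
    · rw [he k, mul_smul, mul_smul, tv_smul_of_orth _ (sympForm_eI_eI _ _),
        tv_smul_of_orth _ (sympForm_eI_eI _ _), tv_smul_of_orth _ (by
          simp [sympForm_add_right, sympForm_smul_right])]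
    · simp only [mul_smul, tv_smul, sympForm_add_left, sympForm_smul_left, sympForm_add_right,
        sympForm_smul_right, sympForm_eI_eI]
      by_cases h1 : k = i
      · subst h1
        rw [hl k (Or.inl rfl), sympForm_fI_eI, sympForm_fI_eI_of_ne hij]
        simp only [a, b]
        module
      by_cases h2 : k = j
      · subst h2
        rw [hl k (Or.inr rfl), sympForm_fI_eI, sympForm_fI_eI_of_ne h1, ← hsym]
        module
      rw [hf k h1 h2, sympForm_fI_eI_of_ne h1, sympForm_fI_eI_of_ne h2]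
      module
  rw [hx]
  exact mul_mem (mul_mem (tv_mem_mTv i j 1 1 b) (tv_left_mem_mTv i j _)) (tv_right_mem_mTv i j _)

/-- the graph of a homomorphism on a subgroup -/
def graph {H : Type*} [Group H] {K : Subgroup (Sp m F)} (f : K →* H) : Subgroup (Sp m F × H) :=
  (K.subtype.prod f).range

theorem mem_graph {H : Type*} [Group H] {K : Subgroup (Sp m F)} (f : K →* H) {x : Sp m F}
    (hx : x ∈ K) : (x, f ⟨x, hx⟩) ∈ graph f := ⟨⟨x, hx⟩, rfl⟩

theorem map_graph {H : Type*} [Group H] {K : Subgroup (Sp m F)} (f : K →* H) :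
    (graph f).map (MonoidHom.fst _ _) = K := by
  ext x
  constructor
  · rintro ⟨_, ⟨y, rfl⟩, rfl⟩; exact y.2
  · exact fun hx => ⟨_, mem_graph f hx, rfl⟩

theorem single_graph {H : Type*} [Group H] {K K' : Subgroup (Sp m F)} (f : K →* H) (f' : K' →* H)
    (h : ∃ Ψ : ↥(K ⊔ K') →* H,
      (∀ (g : Sp m F) (hg : g ∈ K), Ψ ⟨g, Subgroup.mem_sup_left hg⟩ = f ⟨g, hg⟩) ∧
      (∀ (g : Sp m F) (hg : g ∈ K'), Ψ ⟨g, Subgroup.mem_sup_right hg⟩ = f' ⟨g, hg⟩)) :
    Single (MonoidHom.fst _ _) (graph f ⊔ graph f') := by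
  obtain ⟨Ψ, h1, h2⟩ := h
  have hle : graph f ⊔ graph f' ≤ graph Ψ := sup_le
    (by rintro _ ⟨⟨x, hx⟩, rfl⟩; exact ⟨⟨x, Subgroup.mem_sup_left hx⟩, Prod.ext rfl (h1 x hx)⟩)
    (by rintro _ ⟨⟨x, hx⟩, rfl⟩; exact ⟨⟨x, Subgroup.mem_sup_right hx⟩, Prod.ext rfl (h2 x hx)⟩)
  intro g hg hπ
  obtain ⟨y, rfl⟩ := hle hg
  have : y = 1 := Subtype.ext hπ
  rw [this, map_one]

end Cfsg.Agent.SpAmalgam18
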