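import Cfsg.Agent.SpAmalgam18.Step

/-!
Two neighbouring pairs.
-/

set_option autoImplicit false

namespace Cfsg.Agent.SpAmalgam18

open Cfsg Cfsg.Agent.Symplectic

variable {m : ℕ} {F : Type*} [Field F] {G : Type*} [Group G]

theorem sh_smul_left_eq {e e' : Vec m F} (h : sympForm m F e e' = 0) (c : F) :
    sh (c • e) e' 1 = sh e (c • e') 1 := by
  refine eq_of_smul_eq fun x => ?_
  rw [sh_smul (by rw [sympForm_smul_left, h, mul_zero]),
    sh_smul (by rw [sympForm_smul_right, h, mul_zero]), sympForm_smul_right, sympForm_smul_right]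
  module

theorem tvGroup_single_le {q : Fin m} {K : Subgroup (Sp m F)} (he : ∀ c, tv (eI q) c ∈ K)
    (hf : ∀ c, tv (fI q) c ∈ K) : (fixPairs (co {q}) : Subgroup (Sp m F)) ≤ K := by
  rw [fixPairs_eq_tvGroup, tvGroup, Subgroup.closure_le]
  rintro _ ⟨w, hw, c, rfl⟩
  obtain ⟨u, hu, hdec⟩ := exists_split (q := q) hw
  rw [Finset.erase_singleton] at hu
  rw [supp_co_bot hu, add_zero] at hdec
  rw [hdec]
  set a := w (Sum.inl q)
  set b := w (Sum.inr q)
  by_cases hb : b = 0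
  · rw [hb, zero_smul, add_zero, tv_smul_vec]
    exact he _
  · have : tv (eI q) (a / b) • (b • (fI q : Vec m F)) = a • eI q + b • fI q := by
      rw [tv_smul, sympForm_smul_left, sympForm_fI_eI, mul_one, div_mul_cancel₀ _ hb, add_comm]
    rw [← this, ← conj_tv, tv_smul_vec]
    exact mul_mem (mul_mem (he _) (hf _)) (inv_mem (he _))

namespace Link

variable {P : Sys F m G} (L : Link P)

/-- conjugating the edge group inside a single subgroup -/
theorem conj_M {K : Subgroup G} (hK : Single P.π K) (hMK : P.M L.p L.q ≤ K) {y : G} (hy : y ∈ K)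
    (h1 : ∃ a b : F, P.π y • (eI L.p : Vec m F) = a • eI L.p + b • eI L.q)
    (h2 : ∃ a b : F, P.π y • (eI L.q : Vec m F) = a • eI L.p + b • eI L.q) {x : G}
    (hx : x ∈ P.M L.p L.q) : y * x * y⁻¹ ∈ P.M L.p L.q := by
  have hmem : P.π (y * x * y⁻¹) ∈ mTv L.p L.q := by
    rw [map_mul, map_mul, map_inv]
    have : mTv L.p L.q ≤ (mTv L.p L.q).comap (MulAut.conj (P.π y)).toMonoidHom := by
      rw [mTv, Subgroup.closure_le]
      rintro _ ⟨a, b, c, rfl⟩
      simp only [SetLike.mem_coe, Subgroup.mem_comap, MulEquiv.coe_toMonoidHom,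
        MulAut.conj_apply, conj_tv]
      obtain ⟨a1, b1, e1⟩ := h1
      obtain ⟨a2, b2, e2⟩ := h2
      rw [show P.π y • (a • (eI L.p : Vec m F) + b • eI L.q) =
          (a * a1 + b * a2) • eI L.p + (a * b1 + b * b2) • eI L.q by
        rw [smul_add, smul_comm, smul_comm (P.π y), e1, e2]; module]
      exact tv_mem_mTv _ _ _ _ _
    simpa using this (Sys.π_M L.adj hx)
  obtain ⟨z, hz, hπ⟩ := Sys.M_lift (P := P) L.adj hmem
  rw [← hK.eq (hMK hz) (mul_mem (mul_mem hy (hMK hx)) (inv_mem hy)) hπ]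
  exact hz

theorem mm_conj_S {y : G} (hy : y ∈ P.S L.p) {c : F}
    (he : P.π y • (eI L.p : Vec m F) = c • eI L.p) {u : Vec m F} (hu : u ∈ L.V) :
    y * L.mm u * y⁻¹ = L.mm (c • u) := by
  have hy1 : y ∈ L.K1 := Subgroup.mem_sup_right hy
  have hfix : P.π y • (eI L.q : Vec m F) = eI L.q :=
    (mem_fixPairs.1 (Sys.π_S hy) L.q (by simp [L.ne.symm])).1
  have h0 : y * L.m0 * y⁻¹ = L.mm (c • eI L.q) :=
    L.K1_single.eq (mul_mem (mul_mem hy1 (Subgroup.mem_sup_left L.m0_mem)) (inv_mem hy1))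
      (Subgroup.mem_sup_left (L.mm_smul_mem_M c)) (by
        rw [map_mul, map_mul, map_inv, L.π_m0, conj_sh, he, hfix,
          L.π_mm (L.eq_mem_V (Submodule.smul_mem _ _ L.e_mem)),
          sh_smul_left_eq (sympForm_eI_eI _ _)])
  by_cases hu0 : u = 0
  · rw [hu0, smul_zero, L.mm_zero]; group
  obtain ⟨g, hg, hgu⟩ := L.exists_g hu hu0
  have hc := Sys.gam_commute_S L.p_notMem hg hy
  rw [L.mm_spec hg hgu, show y * (g * L.m0 * g⁻¹) * y⁻¹ = (y * g) * L.m0 * (g⁻¹ * y⁻¹) by group,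
    ← hc.eq, ← (hc.inv_inv).symm.eq,
    show g * y * L.m0 * (y⁻¹ * g⁻¹) = g * (y * L.m0 * y⁻¹) * g⁻¹ by group, h0,
    L.mm_conj hg (L.eq_mem_V (Submodule.smul_mem _ _ L.e_mem)), smul_comm, hgu]

theorem K1_fix {k : G} (hk : k ∈ L.K1) : P.π k • (eI L.q : Vec m F) = eI L.q := by
  have : L.K1 ≤ (MulAction.stabilizer (Sp m F) (eI L.q : Vec m F)).comap P.π := sup_le
    (fun x hx => MulAction.mem_stabilizer_iff.2 (mTv_fix_eI (Sys.π_M L.adj hx) _))
    (fun x hx => MulAction.mem_stabilizer_iff.2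
      (mem_fixPairs.1 (Sys.π_S hx) L.q (by simp [L.ne.symm])).1)
  exact this hk

end Link

namespace Sys

variable {P : Sys F m G}

set_option maxHeartbeats 1600000 in
theorem good_pair {p q : Fin m} (hpq : Adj p q) : P.Good {p, q} := by
  set L := Sys.linkSingle P hpq with hL
  have hI : L.I = {L.q} := rfl
  have hadd : L.Additive := fun u hu v hv => L.mm_mul_K2 hu hv
  have hne := L.ne
  have hp2 : L.p ∈ insert L.p L.I := Finset.mem_insert_self _ _
  have hSq : P.S L.q ≤ P.gam L.I := Sys.S_le_gam L.q_mem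
  have hgamS : ∀ g ∈ P.gam L.I, g ∈ P.S L.q := fun g hg => gam_le
    (fun j hj => by rw [Finset.mem_singleton.1 hj]; exact le_rfl) (fun i hi j hj hij =>
      absurd ((Finset.mem_singleton.1 hi).trans (Finset.mem_singleton.1 hj).symm) hij.ne) hg
  have hsup : L.K1 ≤ P.gam (insert L.p L.I) := sup_le
    (M_le_gam hp2 (Finset.mem_insert_of_mem L.q_mem) L.adj) (S_le_gam hp2)
  -- vectors
  have eq_mem : ∀ c : F, c • (eI L.q : Vec m F) ∈ L.V := fun c =>
    Submodule.smul_mem _ _ L.e_mem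
  have fq_mem : ∀ c : F, c • (fI L.q : Vec m F) ∈ L.V := fun c =>
    Submodule.smul_mem _ _ L.f_mem
  -- elements of the rank one groups
  have exists_rot : ∀ (j : Fin m) (x : F), x ≠ 0 → ∃ g ∈ P.S j,
      P.π g • (eI j : Vec m F) = x • eI j ∧ P.π g • (fI j : Vec m F) = x⁻¹ • fI j := by
    intro j x hx
    obtain ⟨t, ht, h1, h2⟩ := exists_move_pair (S := co {j}) (u := (fI j : Vec m F)) (v := eI j)
      (u' := x⁻¹ • fI j) (v' := x • eI j) (fI_mem_co (by simp)) (eI_mem_co (by simp))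
      (Submodule.smul_mem _ _ (fI_mem_co (by simp))) (Submodule.smul_mem _ _ (eI_mem_co (by simp)))
      (sympForm_fI_eI _)
      (by rw [sympForm_smul_left, sympForm_smul_right, sympForm_fI_eI, mul_one,
        inv_mul_cancel₀ hx])
    rw [← fixPairs_eq_tvGroup] at ht
    obtain ⟨g, hg, hπ⟩ := S_lift (P := P) j ht
    exact ⟨g, hg, by rw [hπ, h2], by rw [hπ, h1]⟩
  have exists_turn : ∀ j : Fin m, ∃ g ∈ P.S j,
      P.π g • (eI j : Vec m F) = fI j ∧ P.π g • (fI j : Vec m F) = -eI j := by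
    intro j
    obtain ⟨t, ht, h1, h2⟩ := exists_move_pair (S := co {j}) (u := (fI j : Vec m F)) (v := eI j)
      (u' := -eI j) (v' := fI j) (fI_mem_co (by simp)) (eI_mem_co (by simp))
      (neg_mem (eI_mem_co (by simp))) (fI_mem_co (by simp)) (sympForm_fI_eI _)
      (by rw [← neg_one_smul F (eI j : Vec m F), sympForm_smul_left, sympForm_eI_fI]; ring)
    rw [← fixPairs_eq_tvGroup] at ht
    obtain ⟨g, hg, hπ⟩ := S_lift (P := P) j ht
    exact ⟨g, hg, by rw [hπ, h2], by rw [hπ, h1]⟩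
  obtain ⟨w, hw, hwe, hwf⟩ := exists_turn L.p
  obtain ⟨v, hv, hve, hvf⟩ := exists_turn L.q
  have hwq : P.π w • (eI L.q : Vec m F) = eI L.q ∧ P.π w • (fI L.q : Vec m F) = fI L.q :=
    mem_fixPairs.1 (π_S hw) L.q (by simp [hne.symm])
  set ξ := L.mm ((-1 : F) • eI L.q)
  have hξM : ξ ∈ P.M L.p L.q := L.mm_smul_mem_M _
  set ζ := w * ξ * w⁻¹ with hζ
  have hζK : ζ ∈ L.K1 := mul_mem (mul_mem (Subgroup.mem_sup_right hw)
    (Subgroup.mem_sup_left hξM)) (inv_mem (Subgroup.mem_sup_right hw))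
  have ho : sympForm m F (fI L.p) ((-1 : F) • eI L.q) = 0 := (L.orth_p (eq_mem _)).2
  have hπζ : P.π ζ = sh (fI L.p) ((-1 : F) • eI L.q) 1 := by
    rw [hζ, map_mul, map_mul, map_inv, L.π_mm (eq_mem _), conj_sh, hwe, smul_comm, hwq.1]
  set μ := L.mm (fI L.q)
  have hμK : μ ∈ L.K2 := L.mm_mem_K2 L.f_mem
  have hπμ : P.π μ = sh (eI L.p) (fI L.q) 1 := L.π_mm L.f_mem
  have ho' : sympForm m F (eI L.p) (fI L.q) = 0 := sympForm_eI_fI_of_ne hne
  set n := μ * ζ * μ with hn
  -- images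
  have μe : P.π μ • (eI L.p : Vec m F) = eI L.p := L.π_mm_eI L.f_mem
  have μq : P.π μ • (eI L.q : Vec m F) = (-1 : F) • eI L.p + eI L.q := by
    rw [hπμ, sh_smul ho', sympForm_eI_fI, sympForm_eI_eI]; module
  have μf : P.π μ • (fI L.p : Vec m F) = fI L.p + fI L.q := by
    rw [hπμ, sh_smul ho', sympForm_fI_fI, sympForm_fI_eI]; module
  have μg : P.π μ • (fI L.q : Vec m F) = fI L.q := by
    rw [hπμ, sh_smul ho', sympForm_fI_fI, sympForm_fI_eI_of_ne hne.symm]; module
  have ζe : P.π ζ • (eI L.p : Vec m F) = (1 : F) • eI L.p + (1 : F) • eI L.q := by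
    rw [hπζ, sh_smul ho, sympForm_smul_right, sympForm_eI_eI, sympForm_eI_fI]; module
  have ζq : P.π ζ • (eI L.q : Vec m F) = eI L.q := L.K1_fix hζK
  have ζf : P.π ζ • (fI L.p : Vec m F) = fI L.p := by
    rw [hπζ, sh_smul ho, ho, sympForm_fI_fI]; module
  have ζg : P.π ζ • (fI L.q : Vec m F) = fI L.q - fI L.p := by
    rw [hπζ, sh_smul ho, sympForm_smul_right, sympForm_fI_eI, sympForm_fI_fI]; module
  have ne' : P.π n • (eI L.p : Vec m F) = eI L.q := by
    simp only [hn, map_mul, mul_smul, μe, ζe, one_smul, smul_add, μq]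
    module
  have nq : P.π n • (eI L.q : Vec m F) = -eI L.p := by
    simp only [hn, map_mul, mul_smul, μe, ζe, ζq, μq, one_smul, smul_add, neg_smul, smul_neg]
    module
  have nf : P.π n • (fI L.p : Vec m F) = fI L.q := by
    simp only [hn, map_mul, mul_smul, μf, μg, ζf, ζg, smul_add, smul_sub]
    abel
  have ng : P.π n • (fI L.q : Vec m F) = -fI L.p := by
    simp only [hn, map_mul, mul_smul, μf, μg, ζg, smul_sub]
    abel
  have hnI : P.π n ∈ fixPairs (co (insert L.p L.I)) := by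
    have h1 : P.M L.p L.q ⊔ P.S L.q ≤ P.gam (insert L.p L.I) := sup_le
      (M_le_gam hp2 (Finset.mem_insert_of_mem L.q_mem) L.adj)
      (S_le_gam (Finset.mem_insert_of_mem L.q_mem))
    exact π_gam (mul_mem (mul_mem (h1 hμK) (hsup hζK)) (h1 hμK))
  -- `n` normalises the edge group
  have hMn : ∀ x ∈ P.M L.p L.q, n * x * n⁻¹ ∈ P.M L.p L.q ∧ n⁻¹ * x * n ∈ P.M L.p L.q := by
    have cμ : ∀ x ∈ P.M L.p L.q, μ * x * μ⁻¹ ∈ P.M L.p L.q ∧ μ⁻¹ * x * μ ∈ P.M L.p L.q := by
      intro x hx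
      refine ⟨L.conj_M L.K2_single le_sup_left hμK ⟨1, 0, by rw [μe]; module⟩
        ⟨-1, 1, by rw [μq]; module⟩ hx, ?_⟩
      have := L.conj_M L.K2_single le_sup_left (inv_mem hμK)
        ⟨1, 0, by rw [map_inv, inv_smul_eq_iff, one_smul, zero_smul, add_zero, μe]⟩
        ⟨1, 1, by rw [map_inv, inv_smul_eq_iff, one_smul, one_smul, smul_add, μe, μq]; module⟩ hx
      rwa [inv_inv] at this
    have cζ : ∀ x ∈ P.M L.p L.q, ζ * x * ζ⁻¹ ∈ P.M L.p L.q ∧ ζ⁻¹ * x * ζ ∈ P.M L.p L.q := by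
      intro x hx
      refine ⟨L.conj_M L.K1_single le_sup_left hζK ⟨1, 1, ζe⟩
        ⟨0, 1, by rw [ζq]; module⟩ hx, ?_⟩
      have := L.conj_M L.K1_single le_sup_left (inv_mem hζK)
        ⟨1, -1, by rw [map_inv, inv_smul_eq_iff, smul_add, smul_comm, ζe, smul_comm, ζq]; module⟩
        ⟨0, 1, by rw [map_inv, inv_smul_eq_iff, zero_smul, zero_add, one_smul, ζq]⟩ hx
      rwa [inv_inv] at this
    intro x hx
    constructor
    · have := (cμ _ (cζ _ (cμ _ hx).1).1).1
      rw [hn]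
      convert this using 1
      group
    · have := (cμ _ (cζ _ (cμ _ hx).2).2).2
      rw [hn]
      convert this using 1
      group
  -- `n` carries `S q` onto `S p`
  have hSn : ∀ s ∈ P.S L.q, n * s * n⁻¹ ∈ P.S L.p := by
    let K : Subgroup G := (P.S L.p).comap (MulAut.conj n).toMonoidHom
    suffices P.S L.q ≤ K from fun s hs => this hs
    have hKe : ∀ c, ∃ z ∈ P.S L.q ⊓ K, P.π z = tv (eI L.q) c := by
      intro c
      obtain ⟨z, hzS, hzM, hπz⟩ := L.exists_tv_q c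
      refine ⟨z, ⟨hzS, ?_⟩, hπz⟩
      show n * z * n⁻¹ ∈ P.S L.p
      rw [L.K1_single.eq (Subgroup.mem_sup_left (hMn z hzM).1)
        (Subgroup.mem_sup_right (L.T_mem_S c)) (by
          rw [map_mul, map_mul, map_inv, hπz, conj_tv, nq, L.π_T, ← neg_one_smul F, tv_smul_vec]
          simp)]
      exact L.T_mem_S c
    have hKf : ∀ c, ∃ z ∈ P.S L.q ⊓ K, P.π z = tv (fI L.q) c := by
      intro c
      obtain ⟨z, hzS, hπz⟩ := S_lift (P := P) L.q (x := tv (fI L.q) c)
        (by rw [fixPairs_eq_tvGroup]; exact tv_mem_tvGroup L.f_mem _)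
      refine ⟨z, ⟨hzS, ?_⟩, hπz⟩
      show n * z * n⁻¹ ∈ P.S L.p
      set K' : Subgroup G := L.K1.map (MulAut.conj v).toMonoidHom
      have hK' : Single P.π K' := by
        rintro _ ⟨x, hx, rfl⟩ hπ
        simp only [MulEquiv.coe_toMonoidHom, MulAut.conj_apply, map_mul, map_inv,
          conj_eq_one_iff] at hπ ⊢
        exact L.K1_single x hx hπ
      have memK' : ∀ x ∈ L.K1, v * x * v⁻¹ ∈ K' := fun x hx => ⟨x, hx, rfl⟩
      have memS : ∀ x ∈ P.S L.p, x ∈ K' := fun x hx => by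
        have := memK' x (Subgroup.mem_sup_right hx)
        rwa [(commute_SS hne.symm hv hx).eq, mul_inv_cancel_right] at this
      have memF : ∀ a : F, L.mm (a • fI L.q) ∈ K' := fun a => by
        have := memK' _ (Subgroup.mem_sup_left (L.mm_smul_mem_M a) : L.mm (a • eI L.q) ∈ L.K1)
        rwa [L.mm_conj (hSq hv) (eq_mem a), smul_comm, hve] at this
      have memz : z ∈ K' := by
        obtain ⟨y, hyS, hyM, hπy⟩ := L.exists_tv_q c
        have := memK' y (Subgroup.mem_sup_left hyM)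
        rwa [(single_S L.q).eq (mul_mem (mul_mem hv hyS) (inv_mem hv)) hzS
          (by rw [map_mul, map_mul, map_inv, hπy, hπz, conj_tv, hve])] at this
      have hμz : μ * z * μ⁻¹ = z :=
        L.K2_single.eq (mul_mem (mul_mem hμK (Subgroup.mem_sup_right hzS)) (inv_mem hμK))
          (Subgroup.mem_sup_right hzS) (by rw [map_mul, map_mul, map_inv, hπz, conj_tv, μg])
      have hξz : ξ * z * ξ⁻¹ = L.mm ((-c) • fI L.q) * L.T c * z := by
        refine L.K2_single.eq (mul_mem (mul_mem (Subgroup.mem_sup_left hξM)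
          (Subgroup.mem_sup_right hzS)) (inv_mem (Subgroup.mem_sup_left hξM)))
          (mul_mem (mul_mem (L.mm_mem_K2 (fq_mem _)) (Subgroup.mem_sup_left (L.T_mem_M _)))
            (Subgroup.mem_sup_right hzS)) ?_
        have hξf : P.π ξ • (fI L.q : Vec m F) = (-1 : F) • eI L.p + (1 : F) • fI L.q := by
          rw [L.π_mm (eq_mem _), sh_smul (L.orth_p (eq_mem _)).1, sympForm_smul_right,
            sympForm_fI_eI, sympForm_fI_eI_of_ne hne.symm]
          module
        rw [map_mul, map_mul, map_inv, map_mul, map_mul, hπz, conj_tv, hξf, L.π_mm (fq_mem _),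
          L.π_T, tv_add_eq ho']
        ring_nf
      have hwz : w⁻¹ * z = z * w⁻¹ := (commute_SS hne hw hzS).inv_left.eq
      have hζz : ζ * z * ζ⁻¹ = (w * L.mm ((-c) • fI L.q) * w⁻¹) * (w * L.T c * w⁻¹) * z := by
        calc ζ * z * ζ⁻¹ = w * ξ * (w⁻¹ * z) * w * ξ⁻¹ * w⁻¹ := by rw [hζ]; group
          _ = w * (ξ * z * ξ⁻¹) * w⁻¹ := by rw [hwz]; group
          _ = w * L.mm ((-c) • fI L.q) * L.T c * (w⁻¹ * (w * z * w⁻¹)) := by rw [hξz]; group
          _ = _ := by
            rw [show w * z * w⁻¹ = z from by rw [mul_assoc, ← hwz, mul_inv_cancel_left]]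
            group
      have hμ' : μ ∈ K' := by simpa using memF 1
      have hmem : n * z * n⁻¹ ∈ K' := by
        have : n * z * n⁻¹ = μ * (ζ * (μ * z * μ⁻¹) * ζ⁻¹) * μ⁻¹ := by rw [hn]; group
        rw [this, hμz, hζz]
        exact mul_mem (mul_mem hμ' (mul_mem (mul_mem (mul_mem (mul_mem (memS _ hw) (memF _))
          (inv_mem (memS _ hw))) (memS _ (mul_mem (mul_mem hw (L.T_mem_S _)) (inv_mem hw))))
          memz)) (inv_mem hμ')
      obtain ⟨y, hy, hπy⟩ := S_lift (P := P) L.p (x := tv (fI L.p) c)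
        (by rw [fixPairs_eq_tvGroup]; exact tv_mem_tvGroup (fI_mem_co (by simp)) _)
      rw [hK'.eq hmem (memS y hy) (by
        rw [map_mul, map_mul, map_inv, hπz, conj_tv, ng, hπy, ← neg_one_smul F, tv_smul_vec]
        simp)]
      exact hy
    intro s hs
    have hle : (fixPairs (co {L.q}) : Subgroup (Sp m F)) ≤ (P.S L.q ⊓ K).map P.π :=
      tvGroup_single_le (fun c => hKe c) (fun c => hKf c)
    obtain ⟨z, hz, hπz⟩ := hle (π_S hs)
    rw [← (single_S L.q).eq hz.1 hs hπz]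
    exact hz.2
  have hSn' : ∀ s ∈ P.S L.p, n⁻¹ * s * n ∈ P.S L.q := by
    intro s hs
    have hfx := mem_fixPairs.1 (π_S hs)
    have hmem : (P.π n)⁻¹ * P.π s * P.π n ∈ fixPairs (co {L.q}) := by
      refine mem_fixPairs.2 fun i hi => ?_
      simp only [mul_smul, inv_smul_eq_iff]
      by_cases h : i = L.p
      · rw [h, ne', nf]
        exact ⟨(hfx L.q (by simp [hne.symm])).1, (hfx L.q (by simp [hne.symm])).2⟩
      · have hi' : i ∈ co (insert L.p L.I) := mem_co.2 fun hI' => by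
          rcases Finset.mem_insert.1 hI' with e | e
          · exact h e
          · exact mem_co.1 hi e
        rw [(mem_fixPairs.1 hnI i hi').1, (mem_fixPairs.1 hnI i hi').2]
        exact hfx i (by simp [h])
    obtain ⟨z, hz, hπz⟩ := S_lift (P := P) L.q hmem
    have : n * z * n⁻¹ = s := (single_S L.p).eq (hSn z hz) hs
      (by rw [map_mul, map_mul, map_inv, hπz]; group)
    rw [← this]
    convert hz using 1
    group
  -- a scaled copy of `n`
  have hC : ∀ β : F, β ≠ 0 → ∃ g ∈ P.S L.q, ∃ k ∈ L.K1, ∃ z ∈ L.Q hadd,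
      (∃ d : F, P.π g • (eI L.q : Vec m F) = d • eI L.q) ∧
      L.mm (β • fI L.q) * n = g * k * z := by
    intro β hβ
    obtain ⟨l, hl0, hl⟩ : ∃ l : F, l ≠ 0 ∧ l * β = -1 :=
      ⟨-β⁻¹, neg_ne_zero.2 (inv_ne_zero hβ), by rw [neg_mul, inv_mul_cancel₀ hβ]⟩
    obtain ⟨h, hh, hhe, hhf⟩ := exists_rot L.q l⁻¹ (inv_ne_zero hl0)
    rw [inv_inv] at hhf
    set t := n * h⁻¹ * n⁻¹ with ht
    have htS : t ∈ P.S L.p := hSn _ (inv_mem hh)
    have hte : P.π t • (eI L.p : Vec m F) = l • eI L.p := by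
      have h1 : (P.π n)⁻¹ • (eI L.p : Vec m F) = -eI L.q := by
        rw [inv_smul_eq_iff, smul_neg, nq, neg_neg]
      have h2 : (P.π h)⁻¹ • (eI L.q : Vec m F) = l • eI L.q := by
        rw [inv_smul_eq_iff, smul_comm, hhe, smul_smul, mul_inv_cancel₀ hl0, one_smul]
      simp only [ht, map_mul, map_inv, mul_smul, h1, smul_neg, h2]
      rw [smul_comm, nq, smul_neg, neg_neg]
    have hhw : h * w = w * h := (commute_SS hne hw hh).symm.eq
    have hζ' : h * ζ * h⁻¹ = w * L.mm ((-1 : F) • l⁻¹ • eI L.q) * w⁻¹ := by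
      have hwh : w⁻¹ * h⁻¹ = h⁻¹ * w⁻¹ := (commute_SS hne hw hh).inv_inv.eq
      have := L.mm_conj (hSq hh) (eq_mem (-1))
      rw [smul_comm, hhe] at this
      rw [← this, hζ, show h * (w * ξ * w⁻¹) * h⁻¹ = (h * w) * ξ * (w⁻¹ * h⁻¹) by group, hhw, hwh]
      simp only [ξ]
      group
    have hμh : h * μ * h⁻¹ = L.mm (l • fI L.q) := by
      rw [L.mm_conj (hSq hh) L.f_mem, hhf]
    have hth : t * L.mm (β • fI L.q) * t⁻¹ = L.mm ((l * β) • fI L.q) := by
      rw [L.mm_conj_S htS hte (fq_mem β), smul_smul]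
    have hht : h * L.mm ((l * β) • fI L.q) * h⁻¹ = (L.mm (l • fI L.q))⁻¹ := by
      rw [L.mm_conj (hSq hh) (fq_mem _), smul_comm, hhf, hl, neg_one_smul, hadd.mm_inv (fq_mem _)]
    have hζK' : h * ζ * h⁻¹ ∈ L.K1 := by
      rw [hζ', smul_smul]
      exact mul_mem (mul_mem (Subgroup.mem_sup_right hw)
        (Subgroup.mem_sup_left (L.mm_smul_mem_M _))) (inv_mem (Subgroup.mem_sup_right hw))
    refine ⟨h⁻¹, inv_mem hh, t⁻¹ * (h * ζ * h⁻¹),
      mul_mem (inv_mem (Subgroup.mem_sup_right htS)) hζK', L.mm (l • fI L.q),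
      Link.mm_mem_Q (fq_mem _), ⟨l, by
        rw [map_inv, inv_smul_eq_iff, smul_comm, hhe, smul_smul, mul_inv_cancel₀ hl0, one_smul]⟩,
      ?_⟩
    have hth' : h * t = t * h := (commute_SS hne htS hh).symm.eq
    have e1 : h * μ * h⁻¹ * (h * ζ * h⁻¹) * (h * μ * h⁻¹) = (h * t) * n := by
      rw [ht, hn]; group
    have e2 : h * (t * L.mm (β • fI L.q) * t⁻¹) * h⁻¹ = (h * μ * h⁻¹)⁻¹ := by
      rw [hth, hht, hμh]
    have e3 : L.mm (β • fI L.q) * n = (h * t)⁻¹ * ((h * (t * L.mm (β • fI L.q) * t⁻¹) * h⁻¹) *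
        ((h * t) * n)) := by group
    rw [e3, e2, ← e1, ← hμh, show (h * t)⁻¹ = h⁻¹ * t⁻¹ by rw [hth', mul_inv_rev]]
    group
  have hTn : ∀ c : F, n⁻¹ * L.T c * n ∈ L.Q hadd := fun c =>
    Link.M_le_Q (hMn _ (L.T_mem_M c)).2
  have hstab : ∀ k ∈ L.K1, P.π k • (eI L.p : Vec m F) = eI L.p → k ∈ L.Q hadd := by
    intro k hk he
    obtain ⟨u, hu, c, y, hy, hx⟩ := decomp hp2 (π_gam (hsup hk)) he
    rw [Finset.erase_insert L.p_notMem] at hu hy
    have hyq : y • (eI L.q : Vec m F) ∈ supp (co L.I) := smul_mem_supp hy L.e_mem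
    have hfe := L.K1_fix hk
    rw [hx, mul_smul, mul_smul, tv_smul_of_orth c (by
      rw [sympForm_swap, (L.orth_p hyq).1, neg_zero]), sh_smul (L.orth_p hu).1,
      show sympForm m F (y • (eI L.q : Vec m F)) (eI L.p) = 0 by
        rw [sympForm_swap, (L.orth_p hyq).1, neg_zero], mul_zero, zero_smul, add_zero,
      one_mul] at hfe
    have hfu : sympForm m F (y • (eI L.q : Vec m F)) u = 0 := by
      have := congrArg (fun v : Vec m F => v (Sum.inl L.p)) hfe
      rw [Pi.add_apply, Pi.smul_apply, (hyq L.p (mem_co.2 L.p_notMem)).1] at this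
      simpa [eI, hne] using this
    rw [hfu, zero_smul, add_zero] at hfe
    obtain ⟨u2, hu2, c2, y2, hy2, hy'⟩ := decomp (Finset.mem_singleton_self L.q) hy hfe
    rw [Finset.erase_singleton] at hu2 hy2
    rw [supp_co_bot hu2, sh_zero_right, one_mul,
      show y2 = 1 from eq_one_of_fix fun i => mem_fixPairs.1 hy2 i (by simp), mul_one] at hy'
    have hu' : u = u (Sum.inl L.q) • eI L.q := by
      rw [hfe, sympForm_eI_left, neg_eq_zero] at hfu
      obtain ⟨u3, hu3, hd⟩ := exists_split (q := L.q) hu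
      rw [hI, Finset.erase_singleton] at hu3
      rw [supp_co_bot hu3, add_zero, hfu, zero_smul, add_zero] at hd
      exact hd
    obtain ⟨z, hzS, hzM, hπz⟩ := L.exists_tv_q c2
    have hM : L.mm u * L.T c * z ∈ P.M L.p L.q := by
      rw [hu']; exact mul_mem (mul_mem (L.mm_smul_mem_M _) (L.T_mem_M c)) hzM
    rw [L.K1_single.eq hk (Subgroup.mem_sup_left hM)
      (by rw [map_mul, map_mul, L.π_mm hu, L.π_T, hπz, hx, hy'])]
    exact Link.M_le_Q hM
  -- a point of `K1` outside the first cell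
  have hpt : ∀ k ∈ L.K1, P.π k • (eI L.p : Vec m F) =
      (P.π k • (eI L.p : Vec m F)) (Sum.inl L.p) • eI L.p +
      (P.π k • (eI L.p : Vec m F)) (Sum.inr L.p) • fI L.p +
      (P.π k • (eI L.p : Vec m F)) (Sum.inl L.q) • eI L.q := by
    intro k hk
    set x := P.π k • (eI L.p : Vec m F) with hxdef
    have hx := smul_mem_supp (π_gam (hsup hk)) (eI_mem_co (F := F) hp2)
    obtain ⟨x', hx', hdec⟩ := exists_split (q := L.p) hx
    rw [Finset.erase_insert L.p_notMem] at hx'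
    obtain ⟨x'', hx'', hd2⟩ := exists_split (q := L.q) hx'
    rw [hI, Finset.erase_singleton] at hx''
    rw [supp_co_bot hx'', add_zero] at hd2
    have h0 : x (Sum.inr L.q) = 0 := by
      rw [← sympForm_eI_right L.q x, hxdef, ← L.K1_fix hk, sympForm_smul_smul, sympForm_eI_eI]
    have e1 : x' (Sum.inl L.q) = x (Sum.inl L.q) := by
      have h1 : (eI L.p : Vec m F) (Sum.inl L.q) = 0 := by simp [eI, hne.symm]
      have h2 : (fI L.p : Vec m F) (Sum.inl L.q) = 0 := by simp [fI, hne.symm]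
      conv_rhs => rw [show x = _ from hdec]
      simp only [Pi.add_apply, Pi.smul_apply, h1, h2, smul_zero, zero_add]
    have e2 : x' (Sum.inr L.q) = x (Sum.inr L.q) := by
      have h1 : (eI L.p : Vec m F) (Sum.inr L.q) = 0 := by simp [eI, hne.symm]
      have h2 : (fI L.p : Vec m F) (Sum.inr L.q) = 0 := by simp [fI, hne.symm]
      conv_rhs => rw [show x = _ from hdec]
      simp only [Pi.add_apply, Pi.smul_apply, h1, h2, smul_zero, zero_add]
    rw [hd2, e1, e2, h0, zero_smul, add_zero] at hdec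
    exact hdec
  let Y1 : Set G := {x | ∃ g ∈ P.gam L.I, ∃ k ∈ L.K1, ∃ z ∈ L.Q hadd, x = g * k * z}
  let Y2 : Set G := {x | ∃ g ∈ P.gam L.I, ∃ u ∈ L.V, ∃ z ∈ L.Q hadd, x = g * L.mm u * n * z}
  have hY2R : ∀ u ∈ L.V, ∀ y ∈ Y2, L.mm u * y ∈ Y2 := by
    rintro u hu _ ⟨g, hg, u2, hu2, z, hz, rfl⟩
    have h1 := L.mm_conj (inv_mem hg) hu
    rw [inv_inv] at h1
    have hu' := L.mem_V_smul (inv_mem hg) hu
    have h2 := hadd _ hu' _ hu2
    set c := sympForm m F u2 (P.π g⁻¹ • u)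
    refine ⟨g, hg, _, add_mem hu' hu2, (n⁻¹ * L.T c * n) * z, mul_mem (hTn c) hz, ?_⟩
    calc L.mm u * (g * L.mm u2 * n * z) = g * (g⁻¹ * L.mm u * g * L.mm u2) * n * z := by group
      _ = g * (L.mm (P.π g⁻¹ • u + u2) * L.T c) * n * z := by rw [h1, h2]
      _ = _ := by group
  have hcell : ∀ k ∈ L.K1, (P.π k • (eI L.p : Vec m F)) (Sum.inr L.p) = 0 →
      (P.π k • (eI L.p : Vec m F)) (Sum.inl L.q) ≠ 0 → k ∈ Y2 := by
    intro k hk hb hx0
    set a := (P.π k • (eI L.p : Vec m F)) (Sum.inl L.p)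
    set x := (P.π k • (eI L.p : Vec m F)) (Sum.inl L.q)
    have hke : P.π k • (eI L.p : Vec m F) = a • eI L.p + x • eI L.q := by
      rw [hpt k hk, hb, zero_smul, add_zero]
    have ha : -a ≠ 0 := by
      intro h
      rw [neg_eq_zero] at h
      rw [h, zero_smul, zero_add, ← L.K1_fix hk, smul_comm] at hke
      have := congrArg (fun v : Vec m F => v (Sum.inl L.p)) (MulAction.injective (P.π k) hke)
      simp [eI, hne] at this
    obtain ⟨g1, hg1, k1, hk1, z1, hz1, ⟨d, hd⟩, he⟩ := hC (-a) ha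
    obtain ⟨h, hh, hhe, -⟩ := exists_rot L.q x hx0
    set g2 := h * g1
    have hg2 : g2 ∈ P.S L.q := mul_mem hh hg1
    have hg2p : P.π g2 • (eI L.p : Vec m F) = eI L.p :=
      (mem_fixPairs.1 (π_S hg2) L.p (by simp [hne])).1
    have hk3 : g2 * k1 * g2⁻¹ ∈ L.K1 := by
      have : L.K1 ≤ L.K1.comap (MulAut.conj g2).toMonoidHom := by
        refine sup_le (fun y hy => Subgroup.mem_sup_left ?_) (fun y hy => Subgroup.mem_sup_right ?_)
        · exact L.conj_M L.K2_single le_sup_left (Subgroup.mem_sup_right hg2)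
            ⟨1, 0, by rw [hg2p]; module⟩
            ⟨0, d * x, by simp only [g2, map_mul, mul_smul, hd]; rw [smul_comm, hhe]; module⟩ hy
        · show g2 * y * g2⁻¹ ∈ P.S L.p
          rw [(commute_SS hne.symm hg2 hy).eq, mul_inv_cancel_right]; exact hy
      exact this hk1
    set k3 := g2 * k1 * g2⁻¹ with hk3def
    have hz2 : g2 * z1 ∈ L.Q hadd := mul_mem (Link.gam_le_Q (hSq hg2)) hz1
    have hD : h * L.mm ((-a) • fI L.q) * n = k3 * (g2 * z1) := by
      rw [hk3def, mul_assoc h, he]; simp only [g2]; group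
    have hk3e : P.π k3 • (eI L.p : Vec m F) = P.π k • eI L.p := by
      have h1 := congrArg (fun y => P.π y • (eI L.p : Vec m F)) hD
      simp only [map_mul P.π k3, mul_smul (P.π k3), Link.Q_fix hz2] at h1
      rw [← h1, map_mul, map_mul, mul_smul, mul_smul, ne', L.π_mm (fq_mem _),
        sh_smul (L.orth_p (fq_mem _)).1, sympForm_smul_right, sympForm_eI_fI, sympForm_eI_eI,
        mul_zero, zero_smul, add_zero, smul_add, smul_comm (P.π h),
        (mem_fixPairs.1 (π_S hh) L.p (by simp [hne])).1, hhe, hke]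
      module
    have hκ : k3⁻¹ * k ∈ L.Q hadd := hstab _ (mul_mem (inv_mem hk3) hk)
      (by rw [map_mul, map_inv, mul_smul, inv_smul_eq_iff, hk3e])
    refine ⟨h, hSq hh, _, fq_mem (-a), (g2 * z1)⁻¹ * (k3⁻¹ * k),
      mul_mem (inv_mem hz2) hκ, ?_⟩
    rw [hD]; group
  have hgood := L.good_insert (h := hadd) (fun j hj _ => Finset.mem_singleton.1 hj)
    (Y1 ∪ Y2) ?_ ?_ ?_ ?_ ?_ ?_ ?_
  · exact hgood
  · rintro _ (⟨g, hg, k, hk, z, hz, rfl⟩ | ⟨g, hg, u, hu, z, hz, rfl⟩)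
    · exact mul_mem (mul_mem (gam_mono (Finset.subset_insert _ _) hg) (hsup hk)) (Link.Q_le_gam hz)
    · exact mul_mem (mul_mem (mul_mem (gam_mono (Finset.subset_insert _ _) hg)
        (Link.mm_mem_gam_insert hu)) (mul_mem (mul_mem (Link.mm_mem_gam_insert L.f_mem)
        (hsup hζK)) (Link.mm_mem_gam_insert L.f_mem))) (Link.Q_le_gam hz)
  · exact Or.inl ⟨1, one_mem _, 1, one_mem _, 1, one_mem _, by simp⟩
  · rintro x hx _ (⟨g, hg, k, hk, z, hz, rfl⟩ | ⟨g, hg, u, hu, z, hz, rfl⟩)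
    · refine Or.inl ⟨g, hg, x * k, mul_mem (Subgroup.mem_sup_right hx) hk, z, hz, ?_⟩
      calc x * (g * k * z) = x * g * k * z := by group
        _ = g * x * k * z := by rw [(gam_commute_S L.p_notMem hg hx).eq]
        _ = g * (x * k) * z := by group
    · have hxg : x * g = g * x := (gam_commute_S L.p_notMem hg hx).eq.symm
      set α := u (Sum.inl L.q)
      set β := u (Sum.inr L.q)
      obtain ⟨u', hu', hdec⟩ := exists_split (q := L.q) hu
      rw [hI, Finset.erase_singleton] at hu'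
      rw [supp_co_bot hu', add_zero, add_comm] at hdec
      have h2 := hadd _ (fq_mem β) _ (eq_mem α)
      rw [← hdec] at h2
      set E := L.mm (α • eI L.q) * (L.T (sympForm m F (α • eI L.q) (β • fI L.q)))⁻¹
      have hE : n⁻¹ * E * n ∈ L.Q hadd := Link.M_le_Q (hMn _ (mul_mem (L.mm_smul_mem_M α)
        (inv_mem (L.T_mem_M _)))).2
      by_cases hβ : β = 0
      · refine Or.inr ⟨g, hg, 0, zero_mem _, (n⁻¹ * x * n) * (n⁻¹ * E * n) * z,
          mul_mem (mul_mem (Link.gam_le_Q (hSq (hSn' x hx))) hE) hz, ?_⟩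
        rw [show L.mm (β • fI L.q) = 1 by rw [hβ, zero_smul, L.mm_zero], one_mul] at h2
        rw [L.mm_zero, eq_mul_inv_of_mul_eq h2.symm]
        show x * (g * E * n * z) = _
        rw [show x * (g * E * n * z) = (x * g) * E * n * z by group, hxg]
        group
      · obtain ⟨g1, hg1, k1, hk1, z1, hz1, -, he⟩ := hC β hβ
        have hxg1 : x * g1 = g1 * x := (commute_SS hne hx hg1).eq
        refine Or.inl ⟨g * g1, mul_mem hg (hSq hg1), x * k1,
          mul_mem (Subgroup.mem_sup_right hx) hk1, z1 * (n⁻¹ * E * n) * z,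
          mul_mem (mul_mem hz1 hE) hz, ?_⟩
        rw [eq_mul_inv_of_mul_eq h2.symm, mul_assoc (L.mm (β • fI L.q))]
        calc x * (g * (L.mm (β • fI L.q) * E) * n * z)
            = (x * g) * (L.mm (β • fI L.q) * n) * (n⁻¹ * E * n) * z := by group
          _ = g * (x * g1) * k1 * z1 * (n⁻¹ * E * n) * z := by rw [hxg, he]; group
          _ = _ := by rw [hxg1]; group
  · rintro x hx _ (⟨g, hg, k, hk, z, hz, rfl⟩ | ⟨g, hg, u, hu, z, hz, rfl⟩)
    · exact Or.inl ⟨x * g, mul_mem hx hg, k, hk, z, hz, by group⟩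
    · exact Or.inr ⟨x * g, mul_mem hx hg, u, hu, z, hz, by group⟩
  · rintro u hu _ (⟨g, hg, k, hk, z, hz, rfl⟩ | hy)
    swap
    · exact Or.inr (hY2R u hu _ hy)
    set u' := P.π g⁻¹ • u
    have hu' : u' ∈ L.V := L.mem_V_smul (inv_mem hg) hu
    have h1 := L.mm_conj (inv_mem hg) hu
    rw [inv_inv] at h1
    suffices L.mm u' * k ∈ Y1 ∪ Y2 by
      have hrw : L.mm u * (g * k * z) = g * (g⁻¹ * L.mm u * g * k) * z := by group
      rw [hrw, h1]
      rcases this with ⟨g', hg', k', hk', z', hz', he⟩ | ⟨g', hg', u3, hu3, z', hz', he⟩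
      · exact Or.inl ⟨g * g', mul_mem hg hg', k', hk', z' * z, mul_mem hz' hz,
          by rw [he]; group⟩
      · exact Or.inr ⟨g * g', mul_mem hg hg', u3, hu3, z' * z, mul_mem hz' hz,
          by rw [he]; group⟩
    set a := (P.π k • (eI L.p : Vec m F)) (Sum.inl L.p)
    set b := (P.π k • (eI L.p : Vec m F)) (Sum.inr L.p)
    set x := (P.π k • (eI L.p : Vec m F)) (Sum.inl L.q)
    have hke := hpt k hk
    by_cases hb : b = 0
    · by_cases hx0 : x = 0
      · rw [show (P.π k • (eI L.p : Vec m F)) (Sum.inr L.p) = b from rfl, hb,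
          show (P.π k • (eI L.p : Vec m F)) (Sum.inl L.p) = a from rfl,
          show (P.π k • (eI L.p : Vec m F)) (Sum.inl L.q) = x from rfl, hx0, zero_smul,
          zero_smul, add_zero, add_zero] at hke
        have ha : a ≠ 0 := fun h => eI_ne_zero (F := F) L.p (by
          rw [h, zero_smul, smul_eq_zero_iff_eq] at hke; exact hke)
        obtain ⟨s, hs, hse, -⟩ := exists_rot L.p a ha
        have hκ : s⁻¹ * k ∈ L.Q hadd := hstab _ (mul_mem (inv_mem (Subgroup.mem_sup_right hs)) hk)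
          (by rw [map_mul, map_inv, mul_smul, inv_smul_eq_iff, hse, hke])
        have hs' : P.π s⁻¹ • (eI L.p : Vec m F) = a⁻¹ • eI L.p := by
          rw [map_inv, inv_smul_eq_iff, smul_comm, hse, smul_smul, inv_mul_cancel₀ ha, one_smul]
        have hc := L.mm_conj_S (inv_mem hs) hs' hu'
        rw [inv_inv] at hc
        refine Or.inl ⟨1, one_mem _, s, Subgroup.mem_sup_right hs,
          L.mm (a⁻¹ • u') * (s⁻¹ * k),
          mul_mem (Link.mm_mem_Q (Submodule.smul_mem _ _ hu')) hκ, ?_⟩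
        rw [← hc]; group
      · exact Or.inr (hY2R u' hu' k (hcell k hk hb hx0))
    · have hu0 : b⁻¹ • x • (eI L.q : Vec m F) ∈ L.V := Submodule.smul_mem _ _ (eq_mem x)
      have hne0 : a • (eI L.p : Vec m F) + b • fI L.p ≠ 0 := fun h => hb (by
        simpa [eI, fI] using congrArg (fun v : Vec m F => v (Sum.inr L.p)) h)
      obtain ⟨t, ht, hte⟩ := exists_move (S := co {L.p}) (eI_mem_co (F := F) (by simp))
        (add_mem (Submodule.smul_mem _ _ (eI_mem_co (by simp)))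
          (Submodule.smul_mem _ _ (fI_mem_co (by simp)))) (eI_ne_zero L.p) hne0
      rw [← fixPairs_eq_tvGroup] at ht
      obtain ⟨s, hs, hπs⟩ := S_lift (P := P) L.p ht
      have hm : L.mm (b⁻¹ • x • eI L.q) ∈ L.K1 := by
        rw [smul_smul]; exact Subgroup.mem_sup_left (L.mm_smul_mem_M _)
      set κ := s⁻¹ * (L.mm (b⁻¹ • x • eI L.q))⁻¹ * k with hκ
      have hκQ : κ ∈ L.Q hadd := by
        refine hstab κ (mul_mem (mul_mem (inv_mem (Subgroup.mem_sup_right hs)) (inv_mem hm)) hk) ?_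
        simp only [hκ, map_mul, map_inv, mul_smul, inv_smul_eq_iff]
        rw [hπs, hte, L.π_mm_point hu0, smul_smul b, mul_inv_cancel₀ hb, one_smul]
        exact hke
      have h2 := hadd u' hu' _ hu0
      set c := sympForm m F (b⁻¹ • x • eI L.q) u'
      have hu_eq : L.mm u' * k = L.mm (u' + b⁻¹ • x • eI L.q) * L.T c * s * κ := by
        rw [← h2, hκ]; group
      rw [hu_eq]
      have hTs : L.T c * s ∈ P.S L.p := mul_mem (L.T_mem_S c) hs
      by_cases hw0 : u' + b⁻¹ • x • (eI L.q : Vec m F) = 0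
      · rw [hw0, L.mm_zero, one_mul]
        exact Or.inl ⟨1, one_mem _, L.T c * s, Subgroup.mem_sup_right hTs, κ, hκQ, by group⟩
      obtain ⟨g', hg', hgu⟩ := L.exists_g (add_mem hu' hu0) hw0
      rw [L.mm_spec hg' hgu]
      have hc : Commute g'⁻¹ (L.T c * s) := (gam_commute_S L.p_notMem hg' hTs).inv_left
      refine Or.inl ⟨g', hg', L.m0 * (L.T c * s), mul_mem (Subgroup.mem_sup_left L.m0_mem)
        (Subgroup.mem_sup_right hTs), g'⁻¹ * κ, mul_mem (inv_mem (Link.gam_le_Q hg')) hκQ, ?_⟩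
      calc g' * L.m0 * g'⁻¹ * L.T c * s * κ = g' * L.m0 * (g'⁻¹ * (L.T c * s)) * κ := by group
        _ = g' * L.m0 * (L.T c * s * g'⁻¹) * κ := by rw [hc.eq]
        _ = g' * (L.m0 * (L.T c * s)) * (g'⁻¹ * κ) := by group
  · rintro _ (⟨g, hg, k, hk, z, hz, rfl⟩ | ⟨g, hg, u, hu, z, hz, rfl⟩) hye
    · rw [map_mul, map_mul, mul_smul, mul_smul, Link.Q_fix hz] at hye
      have hke : P.π k • (eI L.p : Vec m F) = eI L.p :=
        MulAction.injective (P.π g) (hye.trans (L.fix_p hg).1.symm)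
      exact mul_mem (mul_mem (Link.gam_le_Q hg) (hstab k hk hke)) hz
    · rw [map_mul, map_mul, map_mul, mul_smul, mul_smul, mul_smul, Link.Q_fix hz, ne'] at hye
      have := MulAction.injective (P.π g) (hye.trans (L.fix_p hg).1.symm)
      rw [L.π_mm hu, sh_smul (L.orth_p hu).1, sympForm_eI_eI, mul_zero, zero_smul, add_zero]
        at this
      have h2 := congrArg (fun v : Vec m F => v (Sum.inl L.q)) this
      simp [eI, hne.symm] at h2
  · intro v0 hv0 hne0
    obtain ⟨v', hv', hdec⟩ := exists_split (q := L.p) hv0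
    rw [Finset.erase_insert L.p_notMem] at hv'
    set a := v0 (Sum.inl L.p)
    set b := v0 (Sum.inr L.p)
    by_cases hb : b = 0
    · rw [hb, zero_smul, add_zero] at hdec
      by_cases hv'0 : v' = 0
      · rw [hv'0, add_zero] at hdec
        have ha : a ≠ 0 := fun h => hne0 (by rw [hdec, h, zero_smul])
        obtain ⟨s, hs, hse, -⟩ := exists_rot L.p a ha
        exact ⟨s, Or.inl ⟨1, one_mem _, s, Subgroup.mem_sup_right hs, 1, one_mem _, by simp⟩,
          by rw [hse, hdec]⟩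
      · obtain ⟨g, hg, hgv⟩ := L.exists_g hv' hv'0
        refine ⟨g * L.mm ((-a) • fI L.q) * n,
          Or.inr ⟨g, hg, (-a) • fI L.q, fq_mem _, 1, one_mem _, by rw [mul_one]⟩, ?_⟩
        rw [map_mul, map_mul, mul_smul, mul_smul, ne', L.π_mm (fq_mem _),
          sh_smul (L.orth_p (fq_mem _)).1, sympForm_smul_right, sympForm_eI_fI, sympForm_eI_eI,
          mul_zero, zero_smul, add_zero, smul_add, hgv, smul_comm (P.π g), (L.fix_p hg).1, hdec]
        module
    · have hne1 : a • (eI L.p : Vec m F) + b • fI L.p ≠ 0 := fun h => hb (by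
        simpa [eI, fI] using congrArg (fun v : Vec m F => v (Sum.inr L.p)) h)
      obtain ⟨t, ht, hte⟩ := exists_move (S := co {L.p}) (eI_mem_co (F := F) (by simp))
        (add_mem (Submodule.smul_mem _ _ (eI_mem_co (by simp)))
          (Submodule.smul_mem _ _ (fI_mem_co (by simp)))) (eI_ne_zero L.p) hne1
      rw [← fixPairs_eq_tvGroup] at ht
      obtain ⟨s, hs, hπs⟩ := S_lift (P := P) L.p ht
      by_cases hv'0 : v' = 0
      · rw [hv'0, add_zero] at hdec
        exact ⟨s, Or.inl ⟨1, one_mem _, s, Subgroup.mem_sup_right hs, 1, one_mem _, by simp⟩,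
          by rw [hπs, hte, hdec]⟩
      · obtain ⟨g, hg, hgv⟩ := L.exists_g hv' hv'0
        refine ⟨g * (L.mm (b⁻¹ • eI L.q) * s), Or.inl ⟨g, hg, _,
          mul_mem (Subgroup.mem_sup_left (L.mm_smul_mem_M b⁻¹)) (Subgroup.mem_sup_right hs),
          1, one_mem _, by simp⟩, ?_⟩
        rw [map_mul, map_mul, mul_smul, mul_smul, hπs, hte, L.π_mm_point (eq_mem _), smul_smul,
          mul_inv_cancel₀ hb, one_smul, smul_add, smul_add, smul_comm, smul_comm (P.π g),
          (L.fix_p hg).1, (L.fix_p hg).2, hgv, hdec]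

end Sys

end Cfsg.Agent.SpAmalgam18
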