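import Cfsg.Agent.SpAmalgam18.Link

/-!
The subgroup over the stabiliser of `e p`, and the criterion for adding the pair `p`.
-/

set_option autoImplicit false

namespace Cfsg.Agent.SpAmalgam18

open Cfsg Cfsg.Agent.Symplectic

variable {m : ℕ} {F : Type*} [Field F] {G : Type*} [Group G]

theorem sh_swap_smul {e e' : Vec m F} (h : sympForm m F e e' = 0) (c : F) :
    sh e (c • e') 1 = sh e' (c • e) 1 := by
  refine eq_of_smul_eq fun x => ?_
  rw [sh_smul (by rw [sympForm_smul_right, h, mul_zero]),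
    sh_smul (by rw [sympForm_smul_right, sympForm_swap, h, neg_zero, mul_zero]),
    sympForm_smul_right, sympForm_smul_right]
  module

theorem sh_comm {u v : Vec m F} (h : sympForm m F u v = 0) : sh u v (1 : F) = sh v u 1 := by
  simpa using sh_swap_smul h 1

theorem tv_add_eq {e e' : Vec m F} (h : sympForm m F e e' = 0) (a b c : F) :
    tv (a • e + b • e') c =
      sh e ((a * b * c) • e') 1 * tv e (a ^ 2 * c) * tv e' (b ^ 2 * c) := by
  have h' : sympForm m F e' e = 0 := by rw [sympForm_swap, h, neg_zero]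
  refine eq_of_smul_eq fun x => ?_
  rw [mul_smul (sh e ((a * b * c) • e') (1 : F) * tv e (a ^ 2 * c)),
    mul_smul (sh e ((a * b * c) • e') (1 : F))]
  simp only [tv_smul, sh_smul (show sympForm m F e ((a * b * c) • e') = 0 by
    rw [sympForm_smul_right, h, mul_zero]), sympForm_add_left, sympForm_smul_left,
    sympForm_add_right, sympForm_smul_right, sympForm_self, h, h']
  module

namespace Link

variable {P : Sys F m G} (L : Link P)

/-- additivity of the family of root elements -/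
def Additive : Prop :=
  ∀ u ∈ L.V, ∀ v ∈ L.V, L.mm u * L.mm v = L.mm (u + v) * L.T (sympForm m F v u)

variable {L}

theorem Additive.mm_inv (h : L.Additive) {u : Vec m F} (hu : u ∈ L.V) :
    (L.mm u)⁻¹ = L.mm (-u) := by
  refine inv_eq_of_mul_eq_one_right ?_
  rw [h u hu (-u) (neg_mem hu), add_neg_cancel, L.mm_zero, ← neg_one_smul F u, sympForm_smul_left,
    sympForm_self, mul_zero, L.T_zero, one_mul]

theorem T_mul_gam {g : G} (hg : g ∈ P.gam L.I) (c : F) : g * L.T c = L.T c * g :=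
  (L.T_commute_gam c hg).eq

/-- the lifts of the stabiliser of `e p` -/
def Q (h : L.Additive) : Subgroup G where
  carrier := {x | ∃ u ∈ L.V, ∃ c, ∃ g ∈ P.gam L.I, x = L.mm u * L.T c * g}
  one_mem' := ⟨0, zero_mem _, 0, 1, one_mem _, by simp [L.mm_zero, L.T_zero]⟩
  mul_mem' := by
    rintro _ _ ⟨u, hu, c, g, hg, rfl⟩ ⟨v, hv, d, g', hg', rfl⟩
    have hv' : P.π g • v ∈ L.V := L.mem_V_smul hg hv
    refine ⟨u + P.π g • v, add_mem hu hv', sympForm m F (P.π g • v) u + (c + d), g * g',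
      mul_mem hg hg', ?_⟩
    rw [← L.T_mul, ← L.T_mul, ← mul_assoc (L.mm _), ← h u hu _ hv', ← L.mm_conj hg hv]
    calc L.mm u * L.T c * g * (L.mm v * L.T d * g')
        = L.mm u * L.T c * (g * L.mm v * g⁻¹) * (g * L.T d) * g' := by group
      _ = L.mm u * (L.T c * (g * L.mm v * g⁻¹)) * (L.T d * g) * g' := by
          rw [T_mul_gam hg]; group
      _ = L.mm u * (g * L.mm v * g⁻¹ * L.T c) * (L.T d * g) * g' := by
          rw [L.mm_conj hg hv, (L.T_commute_mm c _).symm.eq]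
      _ = L.mm u * (g * L.mm v * g⁻¹) * (L.T c * L.T d) * (g * g') := by group
  inv_mem' := by
    rintro _ ⟨u, hu, c, g, hg, rfl⟩
    refine ⟨P.π g⁻¹ • (-u), L.mem_V_smul (inv_mem hg) (neg_mem hu), -c, g⁻¹, inv_mem hg, ?_⟩
    have hT : (L.T c)⁻¹ = L.T (-c) :=
      inv_eq_of_mul_eq_one_right (by rw [L.T_mul, add_neg_cancel, L.T_zero])
    rw [← L.mm_conj (inv_mem hg) (neg_mem hu), mul_inv_rev, mul_inv_rev, hT, h.mm_inv hu,
      inv_inv, (L.T_commute_mm (-c) _).symm.eq]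
    calc g⁻¹ * (L.mm (-u) * L.T (-c))
        = g⁻¹ * L.mm (-u) * g * (g⁻¹ * L.T (-c)) := by group
      _ = g⁻¹ * L.mm (-u) * g * (L.T (-c) * g⁻¹) := by rw [T_mul_gam (inv_mem hg)]
      _ = g⁻¹ * L.mm (-u) * g * L.T (-c) * g⁻¹ := by group

variable {h : L.Additive}

theorem gam_le_Q : P.gam L.I ≤ L.Q h := fun g hg =>
  ⟨0, zero_mem _, 0, g, hg, by simp [L.mm_zero, L.T_zero]⟩

theorem mm_mem_Q {u : Vec m F} (hu : u ∈ L.V) : L.mm u ∈ L.Q h :=
  ⟨u, hu, 0, 1, one_mem _, by simp [L.T_zero]⟩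

theorem T_mem_Q (c : F) : L.T c ∈ L.Q h :=
  ⟨0, zero_mem _, c, 1, one_mem _, by simp [L.mm_zero]⟩

theorem exists_tv_q (c : F) :
    ∃ z, z ∈ P.S L.q ∧ z ∈ P.M L.p L.q ∧ P.π z = tv (eI L.q) c := by
  obtain ⟨z, hz, hπ⟩ := Sys.S_lift (P := P) L.q (x := tv (eI L.q) c) (by
    rw [fixPairs_eq_tvGroup]; exact tv_mem_tvGroup L.e_mem _)
  obtain ⟨a, ha, hπa⟩ := Sys.M_lift (P := P) L.adj (tv_right_mem_mTv L.p L.q c)
  refine ⟨z, hz, ?_, hπ⟩
  rw [L.K2_single.eq (Subgroup.mem_sup_right hz) (Subgroup.mem_sup_left ha) (by rw [hπ, hπa])]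
  exact ha

theorem M_le_Q : P.M L.p L.q ≤ L.Q h := by
  intro a ha
  obtain ⟨b, ⟨hbM, hbQ⟩, hb⟩ : P.π a ∈ (P.M L.p L.q ⊓ L.Q h).map P.π := by
    have : mTv L.p L.q ≤ (P.M L.p L.q ⊓ L.Q h).map P.π := by
      rw [mTv, Subgroup.closure_le]
      rintro _ ⟨x, y, c, rfl⟩
      obtain ⟨z, hzS, hzM, hπz⟩ := L.exists_tv_q (y ^ 2 * c)
      refine ⟨L.mm ((x * y * c) • eI L.q) * L.T (x ^ 2 * c) * z,
        ⟨mul_mem (mul_mem (L.mm_smul_mem_M _) (L.T_mem_M _)) hzM, _,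
          L.eq_mem_V (Submodule.smul_mem _ _ L.e_mem), _, z, Sys.S_le_gam L.q_mem hzS, rfl⟩, ?_⟩
      rw [map_mul, map_mul, hπz, L.π_T, L.π_mm (L.eq_mem_V (Submodule.smul_mem _ _ L.e_mem)),
        tv_add_eq (sympForm_eI_eI _ _)]
    exact this (Sys.π_M L.adj ha)
  rwa [(Sys.single_M L.adj).eq ha hbM hb.symm]

theorem π_mm_T_fI {u : Vec m F} (hu : u ∈ L.V) (c : F) :
    P.π (L.mm u * L.T c) • (fI L.p : Vec m F) = fI L.p + u + c • eI L.p := by
  have hfu := (L.orth_p hu).2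
  rw [map_mul, L.π_mm hu, L.π_T, mul_smul, tv_smul, sympForm_fI_eI,
    sh_smul (L.orth_p hu).1, sympForm_add_left, sympForm_add_left, sympForm_smul_left,
    sympForm_smul_left, sympForm_fI_eI, sympForm_self, hfu, (L.orth_p hu).1]
  module

theorem Q_eq_one {x : G} (hx : x ∈ L.Q h) (he : P.π x = 1) : x = 1 := by
  obtain ⟨u, hu, c, g, hg, rfl⟩ := hx
  have hf : fI L.p + u + c • eI L.p = (fI L.p : Vec m F) := by
    have := congrArg (fun t : Sp m F => t • (fI L.p : Vec m F)) he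
    simp only [one_smul] at this
    rwa [map_mul, mul_smul, (L.fix_p hg).2, L.π_mm_T_fI hu] at this
  have hu' : u + c • eI L.p = 0 := by rwa [add_assoc, add_eq_left] at hf
  have hc : c = 0 := by
    have := congrArg (fun v : Vec m F => v (Sum.inl L.p)) hu'
    simpa [(hu L.p (mem_co.2 L.p_notMem)).1, eI] using this
  subst hc
  rw [zero_smul, add_zero] at hu'
  subst hu'
  rw [L.mm_zero, L.T_zero, one_mul, one_mul] at he ⊢
  exact L.good.single g hg he

theorem exists_Q {x : Sp m F} (hx : x ∈ fixPairs (co (insert L.p L.I)))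
    (he : x • (eI L.p : Vec m F) = eI L.p) : ∃ y ∈ L.Q h, P.π y = x := by
  obtain ⟨u, hu, c, y, hy, rfl⟩ := decomp (Finset.mem_insert_self _ _) hx he
  rw [Finset.erase_insert L.p_notMem] at hu hy
  obtain ⟨g, hg, hπ⟩ := L.good.surj y hy
  exact ⟨L.mm u * L.T c * g, ⟨u, hu, c, g, hg, rfl⟩,
    by rw [map_mul, map_mul, L.π_mm hu, L.π_T, hπ]⟩

/-- The criterion for adding the pair `p`. -/
theorem good_insert (honly : ∀ j ∈ L.I, Adj L.p j → j = L.q) (Y : Set G)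
    (hY : ∀ y ∈ Y, y ∈ P.gam (insert L.p L.I))
    (hone : (1 : G) ∈ Y)
    (hS : ∀ x ∈ P.S L.p, ∀ y ∈ Y, x * y ∈ Y)
    (hG : ∀ x ∈ P.gam L.I, ∀ y ∈ Y, x * y ∈ Y)
    (hR : ∀ u ∈ L.V, ∀ y ∈ Y, L.mm u * y ∈ Y)
    (hstab : ∀ y ∈ Y, P.π y • (eI L.p : Vec m F) = eI L.p → y ∈ L.Q h)
    (hcover : ∀ v ∈ supp (co (insert L.p L.I)), v ≠ 0 →
      ∃ y ∈ Y, P.π y • (eI L.p : Vec m F) = v) :
    P.Good (insert L.p L.I) := by
  let St : Subgroup G :=
    { carrier := {x | (∀ y ∈ Y, x * y ∈ Y) ∧ ∀ y ∈ Y, x⁻¹ * y ∈ Y}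
      one_mem' := ⟨fun y hy => by simpa using hy, fun y hy => by simpa using hy⟩
      mul_mem' := fun {a b} ha hb =>
        ⟨fun y hy => by rw [mul_assoc]; exact ha.1 _ (hb.1 _ hy),
          fun y hy => by rw [mul_inv_rev, mul_assoc]; exact hb.2 _ (ha.2 _ hy)⟩
      inv_mem' := fun {a} ha => ⟨ha.2, fun y hy => by rw [inv_inv]; exact ha.1 _ hy⟩ }
  have of_sub : ∀ K : Subgroup G, (∀ x ∈ K, ∀ y ∈ Y, x * y ∈ Y) → K ≤ St := fun K hK x hx =>
    ⟨hK x hx, hK _ (inv_mem hx)⟩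
  have hSt : P.gam (insert L.p L.I) ≤ St := by
    have hM : P.M L.p L.q ≤ St := fun a ha => by
      have key : ∀ z ∈ L.Q h, ∀ y ∈ Y, z * y ∈ Y := by
        rintro _ ⟨u, hu, c, g, hg, rfl⟩ y hy
        rw [mul_assoc, mul_assoc]
        exact hR u hu _ (hS _ (L.T_mem_S c) _ (hG g hg _ hy))
      exact of_sub _ key (L.M_le_Q ha)
    refine Sys.gam_le (fun j hj => ?_) fun i hi j hj hij => ?_
    · rcases Finset.mem_insert.1 hj with rfl | hj
      · exact of_sub _ hS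
      · exact (Sys.S_le_gam hj).trans (of_sub _ hG)
    · rcases Finset.mem_insert.1 hi with rfl | hi <;> rcases Finset.mem_insert.1 hj with rfl | hj
      · exact absurd rfl hij.ne
      · rw [honly j hj hij]; exact hM
      · rw [P.M_symm hij, honly i hi hij.symm]; exact hM
      · exact (Sys.M_le_gam hi hj hij).trans (of_sub _ hG)
  refine ⟨fun x hx hπ => ?_, fun x hx => ?_⟩
  · have hxY : x ∈ Y := by simpa using (hSt hx).1 1 hone
    exact L.Q_eq_one (hstab x hxY (by rw [hπ, one_smul])) hπ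
  · obtain ⟨y, hy, hye⟩ := hcover _ (smul_mem_supp hx (eI_mem_co (Finset.mem_insert_self _ _)))
      (smul_ne_zero_of_ne_zero x (eI_ne_zero _))
    obtain ⟨z, hz, hπz⟩ := L.exists_Q (h := h) (x := (P.π y)⁻¹ * x)
      (mul_mem (inv_mem (Sys.π_gam (hY y hy))) hx)
      (by rw [mul_smul, inv_smul_eq_iff, hye])
    refine ⟨y * z, mul_mem (hY y hy) ?_, by rw [map_mul, hπz, mul_inv_cancel_left]⟩
    obtain ⟨u, hu, c, g, hg, rfl⟩ := hz
    have hsub := Finset.subset_insert L.p L.I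
    refine mul_mem (mul_mem ?_ (Sys.S_le_gam (Finset.mem_insert_self _ _) (L.T_mem_S c)))
      (Sys.gam_mono hsub hg)
    by_cases h0 : u = 0
    · rw [h0, L.mm_zero]; exact one_mem _
    obtain ⟨t, ht, htu⟩ := L.exists_g hu h0
    rw [L.mm_spec ht htu]
    exact mul_mem (mul_mem (Sys.gam_mono hsub ht) (Sys.M_le_gam (Finset.mem_insert_self _ _)
      (Finset.mem_insert_of_mem L.q_mem) L.adj L.m0_mem)) (inv_mem (Sys.gam_mono hsub ht))

end Link

end Cfsg.Agent.SpAmalgam18
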