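import Cfsg.Agent.SpAmalgam18.Link

/-!
The root elements at `e p` are additive in their vectors.
-/

set_option autoImplicit false

namespace Cfsg.Agent.SpAmalgam18

open Cfsg Cfsg.Agent.Symplectic

variable {m : ℕ} {F : Type*} [Field F] {G : Type*} [Group G]

/-- a second neighbour of `q`, inside the set of pairs of the link -/
structure Inner {P : Sys F m G} (L : Link P) where
  r : Fin m
  adj : Adj L.q r
  r_mem : r ∈ L.I
  good : P.Good (L.I.erase L.q)
  three : ∃ a : F, a ≠ 0 ∧ a ≠ 1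

namespace Inner

variable {P : Sys F m G} {L : Link P} (R : Inner L)

local notation "eq'" => (eI L.q : Vec m F)
local notation "fq'" => (fI L.q : Vec m F)
local notation "er'" => (eI R.r : Vec m F)

theorem exists_a (c : F) : ∃ g ∈ P.M L.q R.r, P.π g = sh eq' (c • er') 1 :=
  Sys.M_lift R.adj (by simpa using sh_mem_mTv L.q R.r (1 : F) c 1)

/-- the lift of the shears at the edge `q r` -/
noncomputable def a (c : F) : G := (R.exists_a c).choose

theorem a_mem_M (c : F) : R.a c ∈ P.M L.q R.r := (R.exists_a c).choose_spec.1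

theorem π_a (c : F) : P.π (R.a c) = sh eq' (c • er') 1 := (R.exists_a c).choose_spec.2

theorem a_mem (c : F) : R.a c ∈ P.gam L.I := Sys.M_le_gam L.q_mem R.r_mem R.adj (R.a_mem_M c)

theorem er_mem : er' ∈ L.V := eI_mem_co R.r_mem

theorem er_smul_mem (p : F) : p • er' ∈ L.V := Submodule.smul_mem _ _ R.er_mem

theorem form_er : sympForm m F eq' er' = 0 ∧ sympForm m F fq' er' = 0 :=
  ⟨sympForm_eI_eI _ _, sympForm_fI_eI_of_ne R.adj.ne⟩

theorem a_smul_f (c s : F) : P.π (R.a c) • (s • fq') = s • fq' + (c * s) • er' := by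
  rw [R.π_a, sh_smul (by rw [sympForm_smul_right, R.form_er.1, mul_zero])]
  simp only [sympForm_smul_left, sympForm_smul_right, R.form_er.2, sympForm_fI_eI]
  module

theorem a_smul_e (c t : F) : P.π (R.a c) • (t • eq') = t • eq' := by
  rw [R.π_a, sh_smul (by rw [sympForm_smul_right, R.form_er.1, mul_zero])]
  simp only [sympForm_smul_left, sympForm_smul_right, R.form_er.1, sympForm_self]
  module

theorem a_conj_f (c s : F) :
    R.a c * L.mm (s • fq') * (R.a c)⁻¹ = L.mm (s • fq' + (c * s) • er') := by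
  rw [L.mm_conj (R.a_mem c) (L.eq_mem_V (Submodule.smul_mem _ _ L.f_mem)), R.a_smul_f]

theorem a_conj_e (c t : F) : R.a c * L.mm (t • eq') * (R.a c)⁻¹ = L.mm (t • eq') := by
  rw [L.mm_conj (R.a_mem c) (L.eq_mem_V (Submodule.smul_mem _ _ L.e_mem)), R.a_smul_e]

/-- the discrepancy of a shift along `e r` -/
noncomputable def del (x : Vec m F) (p : F) : G := L.mm (x + p • er') * (L.mm x)⁻¹

theorem del_shift {s : F} (hs : s ≠ 0) (t p : F) :
    R.del (s • fq' + t • eq') p = R.del (s • fq') p := by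
  have h1 := L.mm_mul_K2 (Submodule.smul_mem _ s L.f_mem) (Submodule.smul_mem _ t L.e_mem)
  set k := sympForm m F (t • eq') (s • fq')
  have h2 : R.a (p / s) * L.mm (s • fq' + t • eq') * (R.a (p / s))⁻¹ =
      L.mm (s • fq' + t • eq' + p • er') := by
    rw [L.mm_conj (R.a_mem _) (L.eq_mem_V (add_mem (Submodule.smul_mem _ _ L.f_mem)
      (Submodule.smul_mem _ _ L.e_mem))), smul_add, R.a_smul_f, R.a_smul_e,
      div_mul_cancel₀ _ hs, add_right_comm]
  have h3 : L.mm (s • fq' + t • eq') = L.mm (s • fq') * L.mm (t • eq') * (L.T k)⁻¹ :=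
    eq_mul_inv_of_mul_eq h1.symm
  have hT := (L.T_commute_gam k (R.a_mem (p / s))).inv_right
  unfold del
  rw [← h2, h3]
  have he := R.a_conj_e (p / s) t
  have hf := R.a_conj_f (p / s) s
  rw [div_mul_cancel₀ _ hs] at hf
  calc R.a (p / s) * (L.mm (s • fq') * L.mm (t • eq') * (L.T k)⁻¹) * (R.a (p / s))⁻¹ *
        (L.mm (s • fq') * L.mm (t • eq') * (L.T k)⁻¹)⁻¹
      = R.a (p / s) * L.mm (s • fq') * L.mm (t • eq') * ((L.T k)⁻¹ * (R.a (p / s))⁻¹) *
        (L.mm (s • fq') * L.mm (t • eq') * (L.T k)⁻¹)⁻¹ := by group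
    _ = R.a (p / s) * L.mm (s • fq') * L.mm (t • eq') * ((R.a (p / s))⁻¹ * (L.T k)⁻¹) *
        (L.mm (s • fq') * L.mm (t • eq') * (L.T k)⁻¹)⁻¹ := by rw [hT.inv_left.eq]
    _ = (R.a (p / s) * L.mm (s • fq') * (R.a (p / s))⁻¹) *
        (R.a (p / s) * L.mm (t • eq') * (R.a (p / s))⁻¹) *
        (L.mm (t • eq'))⁻¹ * (L.mm (s • fq'))⁻¹ := by group
    _ = L.mm (s • fq' + p • er') * (L.mm (s • fq'))⁻¹ := by rw [he, hf]; group

theorem exists_w : ∃ g ∈ P.gam L.I, g ∈ P.S L.q ∧ P.π g • eq' = fq' ∧ P.π g • fq' = -eq' ∧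
    P.π g • er' = er' := by
  obtain ⟨t, ht, h1, h2⟩ := exists_move_pair (S := co {L.q}) (u := fq') (v := eq') (u' := -eq')
    (v' := fq') L.f_mem L.e_mem (neg_mem L.e_mem) L.f_mem (sympForm_fI_eI _)
    (by rw [← neg_one_smul F eq', sympForm_smul_left, sympForm_eI_fI]; ring)
  rw [← fixPairs_eq_tvGroup] at ht
  obtain ⟨g, hg, hπ⟩ := Sys.S_lift (P := P) L.q ht
  refine ⟨g, Sys.S_le_gam L.q_mem hg, hg, by rw [hπ, h2], by rw [hπ, h1], ?_⟩
  rw [hπ]
  exact (mem_fixPairs.1 ht R.r (by simp [R.adj.ne.symm])).1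

theorem del_e {s : F} (hs : s ≠ 0) {t : F} (ht : t ≠ 0) (p : F) :
    R.del (s • eq') p = R.del (t • fq') p := by
  obtain ⟨w, hw, -, he, hf, hr⟩ := R.exists_w
  have hconj : ∀ x ∈ L.V, w * R.del x p * w⁻¹ = R.del (P.π w • x) p := fun x hx => by
    unfold del
    rw [show w * (L.mm (x + p • er') * (L.mm x)⁻¹) * w⁻¹ =
      (w * L.mm (x + p • er') * w⁻¹) * (w * L.mm x * w⁻¹)⁻¹ by group,
      L.mm_conj hw hx, L.mm_conj hw (add_mem hx (R.er_smul_mem p)), smul_add,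
      smul_comm (P.π w) p, hr]
  have mem : ∀ a b : F, a • fq' + b • eq' ∈ L.V := fun a b =>
    L.eq_mem_V (add_mem (Submodule.smul_mem _ _ L.f_mem) (Submodule.smul_mem _ _ L.e_mem))
  have h1 := hconj _ (mem (-s) t)
  rw [R.del_shift (neg_ne_zero.2 hs), hconj _ (L.eq_mem_V (Submodule.smul_mem _ _ L.f_mem)),
    smul_add, smul_comm (P.π w), smul_comm (P.π w), he, hf] at h1
  rw [show (-s) • -eq' = s • eq' by module] at h1
  rw [h1, add_comm, R.del_shift ht]

/-- the common discrepancy -/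
noncomputable def Z (p : F) : G := R.del fq' p

theorem del_e_eq {t : F} (ht : t ≠ 0) (p : F) : R.del (t • eq') p = R.Z p := by
  rw [R.del_e ht one_ne_zero, one_smul]
  rfl

theorem del_f_eq {s : F} (hs : s ≠ 0) (p : F) : R.del (s • fq') p = R.Z p := by
  rw [← R.del_e (s := 1) one_ne_zero hs p]
  exact R.del_e_eq one_ne_zero p

theorem mm_e_add {t : F} (ht : t ≠ 0) (p : F) :
    L.mm (t • eq' + p • er') = R.Z p * L.mm (t • eq') := by
  rw [← R.del_e_eq ht]; simp [del]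

theorem comm_Z (t p : F) : Commute (L.mm (t • eq')) (R.Z p) := by
  set a := R.a p
  set mt := L.mm (t • eq')
  set B := L.mm fq'
  have hB : a * B * a⁻¹ = L.mm (fq' + p • er') := by
    simpa [a, B] using R.a_conj_f p 1
  have ha : a * mt * a⁻¹ = mt := R.a_conj_e p t
  have hm := L.K2_single
  set k := sympForm m F fq' (t • eq') - sympForm m F (t • eq') fq'
  have h1 : mt * B = B * mt * L.T k := by
    have e1 := L.mm_mul_K2 (Submodule.smul_mem _ t L.e_mem) L.f_mem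
    have e2 := L.mm_mul_K2 L.f_mem (Submodule.smul_mem _ t L.e_mem)
    rw [e1, e2, mul_assoc, L.T_mul, add_comm fq']
    simp [k]
  have hT := L.T_commute_gam k (R.a_mem p)
  have h2 : mt * (a * B * a⁻¹) = a * B * a⁻¹ * mt * L.T k := by
    calc mt * (a * B * a⁻¹) = (a * mt * a⁻¹) * (a * B * a⁻¹) := by rw [ha]
      _ = a * (mt * B) * a⁻¹ := by group
      _ = a * (B * mt) * (L.T k * a⁻¹) := by rw [h1]; group
      _ = a * (B * mt) * (a⁻¹ * L.T k) := by rw [hT.symm.inv_right.eq]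
      _ = a * B * a⁻¹ * (a * mt * a⁻¹) * L.T k := by group
      _ = a * B * a⁻¹ * mt * L.T k := by rw [ha]
  have h3 : L.T k * B⁻¹ = B⁻¹ * L.T k := (L.T_commute_mm k fq').symm.inv_right.eq
  have h4 : mt * L.T k * B⁻¹ = B⁻¹ * mt := by
    rw [eq_inv_mul_iff_mul_eq, ← mul_assoc, ← mul_assoc, ← h1]
    group
  show mt * R.Z p = R.Z p * mt
  unfold Z del
  rw [← hB, ← mul_assoc, h2]
  calc a * B * a⁻¹ * mt * L.T k * B⁻¹ = a * B * a⁻¹ * (mt * L.T k * B⁻¹) := by group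
    _ = a * B * a⁻¹ * B⁻¹ * mt := by rw [h4]; group

theorem comm_e_r (t p : F) : Commute (L.mm (t • eq')) (L.mm (p • er')) := by
  by_cases hp : p = 0
  · rw [hp, zero_smul, L.mm_zero]; exact Commute.one_right _
  have h1 : Commute (L.mm (t • eq')) (L.mm ((1 : F) • eq' + p • er')) := by
    rw [R.mm_e_add one_ne_zero]
    exact (R.comm_Z t p).mul_right (L.mm_comm_line (L.eq_mem_V L.e_mem) t 1)
  have ho : sympForm m F eq' (p⁻¹ • (fI R.r : Vec m F)) = 0 := by
    rw [sympForm_smul_right, sympForm_eI_fI_of_ne R.adj.ne, mul_zero]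
  have hh : sh eq' (p⁻¹ • (fI R.r : Vec m F)) 1 ∈ (fixPairs (co L.I) : Subgroup (Sp m F)) := by
    rw [fixPairs_eq_tvGroup]
    exact sh_mem_tvGroup (eI_mem_co L.q_mem)
      (Submodule.smul_mem _ _ (fI_mem_co R.r_mem)) 1
  obtain ⟨h, hh', hπ⟩ := L.good.surj _ hh
  have hhe : P.π h • eq' = eq' := by
    rw [hπ, sh_smul ho, ho, sympForm_self]; module
  have hhr : P.π h • ((1 : F) • eq' + p • er') = p • er' := by
    rw [smul_add, smul_comm (P.π h), smul_comm (P.π h), hhe, hπ, sh_smul ho, sympForm_smul_right,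
      sympForm_eI_fI, sympForm_eI_eI, mul_zero, zero_smul, add_zero, smul_add, smul_smul,
      show p * (1 * (p⁻¹ * -1)) = (-1 : F) by field_simp]
    module
  have h2 := h1.map (MulAut.conj h).toMonoidHom
  simp only [MulEquiv.coe_toMonoidHom, MulAut.conj_apply] at h2
  rw [L.mm_conj hh' (L.eq_mem_V (Submodule.smul_mem _ _ L.e_mem)),
    L.mm_conj hh' (add_mem (L.eq_mem_V (Submodule.smul_mem _ _ L.e_mem)) (R.er_smul_mem p)),
    hhr, smul_comm (P.π h), hhe] at h2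
  exact h2

theorem exists_swap : ∃ g ∈ P.gam L.I, P.π g • eq' = er' ∧ P.π g • er' = eq' := by
  have hq := L.q_mem
  have hne := R.adj.ne
  obtain ⟨t1, ht1, hf1, he1⟩ := exists_move_pair (S := co L.I) (u := fq') (v := eq')
    (u' := (fI R.r : Vec m F)) (v' := er') (fI_mem_co hq) (eI_mem_co hq) (fI_mem_co R.r_mem)
    R.er_mem (sympForm_fI_eI _) (sympForm_fI_eI _)
  rw [← fixPairs_eq_tvGroup] at ht1
  have hsub : ∀ v ∈ L.V, sympForm m F er' v = 0 → sympForm m F (fI R.r) v = 0 →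
      v ∈ supp (co (L.I.erase R.r)) := fun v hv h1 h2 i hi => by
    by_cases h : i = R.r
    · subst h
      rw [sympForm_eI_left, neg_eq_zero] at h1
      rw [sympForm_fI_left] at h2
      exact ⟨h2, h1⟩
    · exact hv i (mem_co.2 fun hI => mem_co.1 hi (Finset.mem_erase.2 ⟨h, hI⟩))
  have hE : t1 • er' ∈ supp (co (L.I.erase R.r)) := hsub _ (smul_mem_supp ht1 R.er_mem)
    (by have := sympForm_smul_smul t1 eq' er'; rwa [he1, R.form_er.1] at this)
    (by have := sympForm_smul_smul t1 fq' er'; rwa [hf1, R.form_er.2] at this)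
  have hFr : t1 • (fI R.r : Vec m F) ∈ supp (co (L.I.erase R.r)) :=
    hsub _ (smul_mem_supp ht1 (fI_mem_co R.r_mem))
    (by
      have := sympForm_smul_smul t1 eq' (fI R.r : Vec m F)
      rwa [he1, sympForm_eI_fI_of_ne hne] at this)
    (by
      have := sympForm_smul_smul t1 fq' (fI R.r : Vec m F)
      rwa [hf1, sympForm_fI_fI] at this)
  obtain ⟨t2, ht2, -, he2⟩ := exists_move_pair (S := co (L.I.erase R.r)) hFr hE
    (u' := fq') (v' := eq') (fI_mem_co (Finset.mem_erase.2 ⟨hne, hq⟩))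
    (eI_mem_co (Finset.mem_erase.2 ⟨hne, hq⟩)) (by rw [sympForm_smul_smul, sympForm_fI_eI])
    (sympForm_fI_eI _)
  rw [← fixPairs_eq_tvGroup] at ht2
  have hfix : t2 • er' = er' := (mem_fixPairs.1 ht2 R.r (by simp)).1
  obtain ⟨g, hg, hπ⟩ := L.good.surj (t2 * t1) (mul_mem (Sys.fixPairs_mono (fun x hx => mem_co.2
    fun h => mem_co.1 hx (Finset.mem_of_mem_erase h)) ht2) ht1)
  exact ⟨g, hg, by rw [hπ, mul_smul, he1, hfix], by rw [hπ, mul_smul, he2]⟩

theorem Z_eq (p : F) : R.Z p = L.mm (p • er') := by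
  obtain ⟨g, hg, hgq, hgr⟩ := R.exists_swap
  set me := L.mm ((1 : F) • eq') with hme
  set Z' := g * R.Z 1 * g⁻¹ with hZ'
  set K := Z' * me⁻¹ with hK
  have hconjr : ∀ p : F, g * L.mm (p • eq') * g⁻¹ = L.mm (p • er') := fun p => by
    rw [L.mm_conj hg (L.eq_mem_V (Submodule.smul_mem _ _ L.e_mem)), smul_comm, hgq]
  have hc1 : ∀ p : F, Commute Z' (L.mm (p • er')) := fun p => by
    rw [← hconjr p]
    have h2 := (R.comm_Z p 1).symm.map (MulAut.conj g).toMonoidHom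
    simpa only [MulEquiv.coe_toMonoidHom, MulAut.conj_apply] using h2
  have hc2 : ∀ p : F, Commute K (L.mm (p • er')) := fun p =>
    (hc1 p).mul_left (R.comm_e_r 1 p).inv_left
  have hZ : ∀ p : F, p ≠ 0 → R.Z p = K * L.mm (p • er') := fun p hp => by
    have h1 : g * L.mm (p • eq' + (1 : F) • er') * g⁻¹ = L.mm ((1 : F) • eq' + p • er') := by
      rw [L.mm_conj hg (add_mem (L.eq_mem_V (Submodule.smul_mem _ _ L.e_mem)) (R.er_smul_mem 1)),
        smul_add, smul_comm (P.π g), smul_comm (P.π g), hgq, hgr, add_comm]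
    rw [R.mm_e_add hp, R.mm_e_add one_ne_zero, ← hme] at h1
    have h2 : Z' * L.mm (p • er') = R.Z p * me := by rw [← h1, hZ', ← hconjr p]; group
    rw [hK, mul_assoc, ((R.comm_e_r 1 p).inv_left).eq, ← mul_assoc, h2, mul_inv_cancel_right]
  have hadd : ∀ p k : F, k ≠ 0 → 1 + k ≠ 0 → R.Z p * R.Z (k * p) = R.Z ((1 + k) * p) := by
    intro p k hk hk1
    have h1 := L.mm_line (add_mem (L.eq_mem_V L.e_mem) (R.er_smul_mem p)) 1 k
    simp only [smul_add, smul_smul, one_mul] at h1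
    rw [R.mm_e_add one_ne_zero, R.mm_e_add hk, R.mm_e_add hk1, ← hme,
      show R.Z p * me * (R.Z (k * p) * L.mm (k • eq')) =
        R.Z p * (me * R.Z (k * p)) * L.mm (k • eq') by group,
      (R.comm_Z 1 (k * p)).eq,
      show R.Z p * (R.Z (k * p) * me) * L.mm (k • eq') =
        R.Z p * R.Z (k * p) * (me * L.mm (k • eq')) by group, hme,
      L.mm_line (L.eq_mem_V L.e_mem)] at h1
    exact mul_right_cancel h1
  have hK1 : K = 1 := by
    obtain ⟨a, ha0, ha1⟩ := R.three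
    have hk : (-a) ≠ 0 := neg_ne_zero.2 ha0
    have hk1 : 1 + -a ≠ 0 := by
      rw [← sub_eq_add_neg]; exact sub_ne_zero.2 fun h => ha1 h.symm
    have h := hadd 1 (-a) hk hk1
    rw [mul_one, mul_one, hZ 1 one_ne_zero, hZ _ hk, hZ _ hk1, ← L.mm_line R.er_mem] at h
    have h' : K * (L.mm ((1 : F) • er') * L.mm ((-a) • er')) * K =
        K * (L.mm ((1 : F) • er') * L.mm ((-a) • er')) := by
      conv_rhs => rw [← h]
      rw [show K * (L.mm ((1 : F) • er') * L.mm ((-a) • er')) * K =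
        K * L.mm ((1 : F) • er') * (L.mm ((-a) • er') * K) by group, (hc2 (-a)).symm.eq]
    exact mul_eq_left.1 h'
  by_cases hp : p = 0
  · rw [hp, zero_smul, L.mm_zero]; simp [Z, del]
  rw [hZ p hp, hK1, one_mul]

theorem mm_key {x : Vec m F} (hx : x ∈ supp (co {L.q})) (p : F) :
    L.mm (x + p • er') = L.mm (p • er') * L.mm x := by
  obtain ⟨u, hu, hdec⟩ := exists_split (q := L.q) hx
  rw [Finset.erase_singleton] at hu
  rw [supp_co_bot hu, add_zero] at hdec
  by_cases hs : x (Sum.inr L.q) = 0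
  · rw [hs, zero_smul, add_zero] at hdec
    by_cases ht : x (Sum.inl L.q) = 0
    · rw [ht, zero_smul] at hdec
      subst hdec
      simp [L.mm_zero]
    · rw [hdec, R.mm_e_add ht, R.Z_eq]
  · rw [hdec, add_comm (x (Sum.inl L.q) • eq'), ← R.Z_eq]
    have := R.del_shift hs (x (Sum.inl L.q)) p
    rw [R.del_f_eq hs] at this
    rw [← this]
    simp [del]

/-- `sh (e p) (e r)` is the commutator of `sh (e q) (e r)` and `sh (e p) (f q)`. -/
theorem mm_er_eq (c s : F) : L.mm ((c * s) • er') =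
    R.a c * L.mm (s • fq') * (R.a c)⁻¹ * (L.mm (s • fq'))⁻¹ := by
  rw [R.a_conj_f, R.mm_key (Submodule.smul_mem _ _ L.f_mem)]
  group

include R in
theorem mm_mul {u v : Vec m F} (hu : u ∈ L.V) (hv : v ∈ L.V) :
    L.mm u * L.mm v = L.mm (u + v) * L.T (sympForm m F v u) := by
  suffices h : ∀ u ∈ L.V, ∀ v ∈ L.V, ∃ c, L.mm u * L.mm v = L.mm (u + v) * L.T c by
    obtain ⟨c, hc⟩ := h u hu v hv
    have h2 := L.π_mm_mul hu hv
    rw [hc, map_mul, map_mul, mul_right_inj] at h2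
    rw [hc, (Sys.single_S L.p).eq (L.T_mem_S c) (L.T_mem_S _) h2]
  intro u hu v hv
  by_cases h0 : u = 0
  · exact ⟨0, by rw [h0, L.mm_zero, L.T_zero, one_mul, mul_one, zero_add]⟩
  suffices h : ∀ w ∈ L.V, ∃ c, L.mm eq' * L.mm w = L.mm (eq' + w) * L.T c by
    obtain ⟨g, hg, hgu⟩ := L.exists_g hu h0
    obtain ⟨c, hc⟩ := h _ (L.mem_V_smul (inv_mem hg) hv)
    refine ⟨c, ?_⟩
    have h1 := L.mm_conj hg (L.eq_mem_V L.e_mem)
    rw [hgu] at h1
    have h2 := L.mm_conj hg (L.mem_V_smul (inv_mem hg) hv)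
    rw [map_inv, smul_inv_smul, ← map_inv] at h2
    have h3 := L.mm_conj hg (add_mem (L.eq_mem_V L.e_mem) (L.mem_V_smul (inv_mem hg) hv))
    rw [smul_add, hgu, map_inv, smul_inv_smul, ← map_inv] at h3
    rw [← h1, ← h2, ← h3, show g * L.mm eq' * g⁻¹ * (g * L.mm (P.π g⁻¹ • v) * g⁻¹) =
      g * (L.mm eq' * L.mm (P.π g⁻¹ • v)) * g⁻¹ by group, hc,
      show g * (L.mm (eq' + P.π g⁻¹ • v) * L.T c) * g⁻¹ =
        g * L.mm (eq' + P.π g⁻¹ • v) * (L.T c * g⁻¹) by group,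
      (L.T_commute_gam c hg).symm.inv_right.eq, mul_assoc _ g⁻¹]
  intro w hw
  obtain ⟨z, hz, hdec⟩ := exists_split (q := L.q) hw
  set x : Vec m F := w (Sum.inl L.q) • eq' + w (Sum.inr L.q) • fq'
  have hx : x ∈ supp (co {L.q}) :=
    add_mem (Submodule.smul_mem _ _ L.e_mem) (Submodule.smul_mem _ _ L.f_mem)
  by_cases hz0 : z = 0
  · rw [hz0, add_zero] at hdec
    exact ⟨_, by rw [hdec]; exact L.mm_mul_K2 L.e_mem hx⟩
  have hrJ : R.r ∈ L.I.erase L.q := Finset.mem_erase.2 ⟨R.adj.ne.symm, R.r_mem⟩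
  obtain ⟨t, ht, htz⟩ := exists_move (eI_mem_co (F := F) hrJ) hz (eI_ne_zero R.r) hz0
  rw [← fixPairs_eq_tvGroup] at ht
  obtain ⟨g, hg', hπ⟩ := R.good.surj t ht
  have hg := Sys.gam_mono (Finset.erase_subset L.q L.I) hg'
  have hfix : ∀ y ∈ supp (co {L.q}), P.π g • y = y := fun y hy => by
    rw [hπ]
    exact smul_eq_self_of_mem_supp ht (supp_anti (fun i hi => mem_co.2 fun h => by
      rw [Finset.mem_singleton.1 h] at hi
      exact mem_co.1 hi (mem_co.2 (Finset.notMem_erase _ _))) hy)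
  refine ⟨sympForm m F x eq', ?_⟩
  have h1 := L.mm_conj hg (L.eq_mem_V L.e_mem)
  rw [hfix _ L.e_mem] at h1
  have h2 := L.mm_conj hg (add_mem (L.eq_mem_V hx) R.er_mem)
  rw [smul_add, hfix _ hx, hπ, htz, ← hdec] at h2
  have h3 := L.mm_conj hg
    (add_mem (L.eq_mem_V (add_mem L.e_mem hx)) R.er_mem)
  rw [smul_add, hfix _ (add_mem L.e_mem hx), hπ, htz, add_assoc eq' x z, ← hdec] at h3
  rw [← h1, ← h2, ← h3, show g * L.mm eq' * g⁻¹ * (g * L.mm (x + er') * g⁻¹) =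
    g * (L.mm eq' * L.mm (x + er')) * g⁻¹ by group]
  have hk := R.mm_key hx 1
  have hk' := R.mm_key (add_mem L.e_mem hx) 1
  rw [one_smul] at hk hk'
  have hce : Commute (L.mm eq') (L.mm er') := by simpa using R.comm_e_r 1 1
  rw [hk, hk', ← mul_assoc (L.mm eq'), hce.eq, mul_assoc (L.mm er'), L.mm_mul_K2 L.e_mem hx,
    show g * (L.mm er' * (L.mm (eq' + x) * L.T (sympForm m F x eq'))) * g⁻¹ =
      g * (L.mm er' * L.mm (eq' + x)) * (L.T (sympForm m F x eq') * g⁻¹) by group,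
    (L.T_commute_gam _ hg).symm.inv_right.eq, mul_assoc _ g⁻¹]

end Inner

end Cfsg.Agent.SpAmalgam18
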