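import Cfsg.Agent.SpAmalgam18.Sys

/-!
A pair `p` linked by an edge to the pair `q` of a set `I` of pairs: the family of root elements
`sh (e p) u` for vectors `u` supported on `I`.
-/

set_option autoImplicit false

namespace Cfsg.Agent.SpAmalgam18

open Cfsg Cfsg.Agent.Symplectic

variable {m : ℕ} {F : Type*} [Field F]

theorem sh_zero_right (u : Vec m F) : sh u 0 (1 : F) = 1 :=
  eq_of_smul_eq fun x => by rw [sh_smul (sympForm_zero_right u)]; simp

theorem sh_mem_tvGroup {S : Finset (Fin m)} {u v : Vec m F} (hu : u ∈ supp S) (hv : v ∈ supp S)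
    (a : F) : sh u v a ∈ tvGroup (F := F) S :=
  mul_mem (mul_mem (tv_mem_tvGroup (add_mem hu hv) _) (tv_mem_tvGroup hu _)) (tv_mem_tvGroup hv _)

theorem sympForm_eI_supp {S : Finset (Fin m)} {i : Fin m} (hi : i ∈ S) {v : Vec m F}
    (hv : v ∈ supp S) : sympForm m F (eI i) v = 0 ∧ sympForm m F (fI i) v = 0 := by
  rw [sympForm_eI_left, sympForm_fI_left, (hv i hi).1, (hv i hi).2, neg_zero]
  exact ⟨rfl, rfl⟩

theorem sh_mul_sh {e u v : Vec m F} (hu : sympForm m F e u = 0) (hv : sympForm m F e v = 0) :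
    sh e u 1 * sh e v 1 = sh e (u + v) 1 * tv e (sympForm m F v u) := by
  have huv : sympForm m F e (u + v) = 0 := by rw [sympForm_add_right, hu, hv, add_zero]
  have hev : sympForm m F v e = 0 := by rw [sympForm_swap, hv, neg_zero]
  refine eq_of_smul_eq fun x => ?_
  simp only [mul_smul, sh_smul hu, sh_smul hv, sh_smul huv, tv_smul, sympForm_add_left,
    sympForm_smul_left, sympForm_add_right, sympForm_self, hu, hv, hev]
  module

/-- the vector `v` with its `q` components removed -/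
theorem exists_split {I : Finset (Fin m)} {q : Fin m} {v : Vec m F} (hv : v ∈ supp (co I)) :
    ∃ u ∈ supp (co (I.erase q)),
      v = v (Sum.inl q) • eI q + v (Sum.inr q) • fI q + u := by
  refine ⟨v - (v (Sum.inl q) • eI q + v (Sum.inr q) • fI q), fun i hi => ?_, by abel⟩
  by_cases h : i = q
  · subst h; simp [eI, fI]
  · have := hv i (by simp_all [Finset.mem_erase])
    simp [eI, fI, this.1, this.2, Pi.single_apply, h]

theorem eI_mem_co {I : Finset (Fin m)} {i : Fin m} (hi : i ∈ I) :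
    (eI i : Vec m F) ∈ supp (co I) := eI_mem_supp (by simpa using hi)

theorem fI_mem_co {I : Finset (Fin m)} {i : Fin m} (hi : i ∈ I) :
    (fI i : Vec m F) ∈ supp (co I) := fI_mem_supp (by simpa using hi)

theorem mem_co_singleton {q : Fin m} {I : Finset (Fin m)} (hq : q ∈ I) {v : Vec m F}
    (hv : v ∈ supp (co {q})) : v ∈ supp (co I) :=
  supp_anti (fun x hx => mem_co.2 fun h => mem_co.1 hx (Finset.mem_singleton.1 h ▸ hq)) hv

theorem supp_co_erase_le {I : Finset (Fin m)} {q : Fin m} {v : Vec m F}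
    (hv : v ∈ supp (co (I.erase q))) : v ∈ supp (co I) :=
  supp_anti (fun x hx => mem_co.2 fun h => mem_co.1 hx (Finset.mem_of_mem_erase h)) hv

theorem supp_co_bot {v : Vec m F} (hv : v ∈ supp (co (∅ : Finset (Fin m)))) : v = 0 := by
  funext k
  rcases k with k | k
  · exact (hv k (by simp)).1
  · exact (hv k (by simp)).2

/-- An element fixing `e q` is a root element at `e q` times one fixing the pair. -/
theorem decomp {I : Finset (Fin m)} {q : Fin m} (hq : q ∈ I) {x : Sp m F}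
    (hx : x ∈ fixPairs (co I)) (he : x • (eI q : Vec m F) = eI q) :
    ∃ u ∈ supp (co (I.erase q)), ∃ c : F, ∃ y ∈ fixPairs (co (I.erase q)),
      x = sh (eI q) u 1 * tv (eI q) c * y := by
  have hw := smul_mem_supp hx (fI_mem_co (F := F) hq)
  obtain ⟨u, hu, hdec⟩ := exists_split (q := q) hw
  have hb : (x • (fI q : Vec m F)) (Sum.inr q) = 1 := by
    have := sympForm_smul_smul x (eI q) (fI q)
    rw [he, sympForm_eI_left, sympForm_eI_fI] at this
    simpa using this
  rw [hb, one_smul] at hdec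
  set a := (x • (fI q : Vec m F)) (Sum.inl q)
  have hqu := sympForm_eI_supp (i := q) (by simp) hu
  have hz : sh (eI q) u 1 * tv (eI q) a ∈ (fixPairs (co I) : Subgroup (Sp m F)) := by
    rw [fixPairs_eq_tvGroup]
    exact mul_mem (sh_mem_tvGroup (eI_mem_co hq) (supp_co_erase_le hu) _)
      (tv_mem_tvGroup (eI_mem_co hq) _)
  refine ⟨u, hu, a, (sh (eI q) u 1 * tv (eI q) a)⁻¹ * x, ?_, by group⟩
  refine mem_fixPairs.2 fun i hi => ?_
  by_cases h : i = q
  · subst h
    simp only [mul_smul, inv_smul_eq_iff, he, mul_smul]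
    simp only [tv_smul, sh_smul hqu.1, sympForm_add_left, sympForm_smul_left, sympForm_self,
      sympForm_fI_eI, hqu.1, hqu.2]
    constructor
    · module
    · rw [hdec]; module
  · have hi' : i ∈ co I := mem_co.2 fun hI => mem_co.1 hi (Finset.mem_erase.2 ⟨h, hI⟩)
    exact mem_fixPairs.1 (mul_mem (inv_mem hz) hx) i hi'

variable {G : Type*} [Group G]

/-- a pair `p` attached to the pair `q` of `I` -/
structure Link (P : Sys F m G) where
  p : Fin m
  q : Fin m
  I : Finset (Fin m)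
  adj : Adj p q
  q_mem : q ∈ I
  p_notMem : p ∉ I
  good : P.Good I
  comm : ∀ g ∈ P.gam I, P.π g • (eI q : Vec m F) = eI q → ∀ a ∈ P.M p q, Commute g a

namespace Sys

variable {P : Sys F m G}

theorem commute_MM {i j k l : Fin m} (h : Adj i j) (h' : Adj k l) {a b : G} (ha : a ∈ P.M i j)
    (hb : b ∈ P.M k l) : Commute a b :=
  (P.singleMM h h').commute (Subgroup.mem_sup_left ha) (Subgroup.mem_sup_right hb)
    (mTv_commute (π_M h ha) (π_M h' hb))

theorem commute_MS {i j l : Fin m} (h : Adj i j) (hi : i ≠ l) (hj : j ≠ l) {a b : G}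
    (ha : a ∈ P.M i j) (hb : b ∈ P.S l) : Commute a b :=
  (P.singleMS l h).commute (Subgroup.mem_sup_left ha) (Subgroup.mem_sup_right hb)
    (fixPairs_commute (fun k => by
      by_cases hk : k = l
      · left; subst hk; simp [hi.symm, hj.symm]
      · right; simp [hk]) (mTv_le_fixPairs i j (π_M h ha)) (π_S hb))

theorem gam_commute_M {p q : Fin m} (h : Adj p q) {J : Finset (Fin m)} (hp : p ∉ J) (hq : q ∉ J)
    {g a : G} (hg : g ∈ P.gam J) (ha : a ∈ P.M p q) : Commute g a := by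
  suffices P.gam J ≤ Subgroup.centralizer {a} from
    Subgroup.mem_centralizer_singleton_iff.1 (this hg)
  refine gam_le (fun j hj x hx => Subgroup.mem_centralizer_singleton_iff.2 ?_)
    fun i _ j _ hij x hx => Subgroup.mem_centralizer_singleton_iff.2 ?_
  · exact (commute_MS h (fun e => hp (by rw [e]; exact hj)) (fun e => hq (by rw [e]; exact hj))
      ha hx).symm
  · exact (commute_MM h hij ha hx).symm

theorem gam_commute_S {p : Fin m} {J : Finset (Fin m)} (hp : p ∉ J)
    {g a : G} (hg : g ∈ P.gam J) (ha : a ∈ P.S p) : Commute g a := by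
  suffices P.gam J ≤ Subgroup.centralizer {a} from
    Subgroup.mem_centralizer_singleton_iff.1 (this hg)
  refine gam_le (fun j hj x hx => Subgroup.mem_centralizer_singleton_iff.2 ?_)
    fun i hi j hj hij x hx => Subgroup.mem_centralizer_singleton_iff.2 ?_
  · exact commute_SS (fun e => hp (by rw [← e]; exact hj)) hx ha
  · exact commute_MS hij (fun e => hp (by rw [← e]; exact hi))
      (fun e => hp (by rw [← e]; exact hj)) hx ha

theorem commute_tv_M {p q : Fin m} (h : Adj p q) {z : G} (hz : z ∈ P.S q) {c : F}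
    (hπ : P.π z = tv (eI q) c) {a : G} (ha : a ∈ P.M p q) : Commute z a :=
  (P.singleMS q h).commute (Subgroup.mem_sup_right hz) (Subgroup.mem_sup_left ha)
    (mTv_commute (by rw [hπ]; exact tv_right_mem_mTv p q c) (π_M h ha))

/-- the link at an end pair -/
def linkSingle (P : Sys F m G) {p q : Fin m} (h : Adj p q) : Link P where
  p := p
  q := q
  I := {q}
  adj := h
  q_mem := Finset.mem_singleton_self q
  p_notMem := by simpa using h.ne
  good := good_singleton q
  comm := by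
    intro g hg he a ha
    obtain ⟨u, hu, c, y, hy, hx⟩ := decomp (Finset.mem_singleton_self q) (π_gam hg) he
    rw [Finset.erase_singleton] at hu hy
    rw [supp_co_bot hu, sh_zero_right, one_mul,
      show y = 1 from eq_one_of_fix fun i => mem_fixPairs.1 hy i (by simp), mul_one] at hx
    have hgS : g ∈ P.S q :=
      gam_le (fun j hj => by rw [Finset.mem_singleton.1 hj]) (fun i hi j hj hij =>
        absurd ((Finset.mem_singleton.1 hi).trans (Finset.mem_singleton.1 hj).symm) hij.ne) hg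
    exact commute_tv_M h hgS hx ha

/-- the link at an inner pair -/
def linkStep (P : Sys F m G) {p q r : Fin m} {I : Finset (Fin m)} (h : Adj p q) (h' : Adj q r)
    (hq : q ∈ I) (hr : r ∈ I) (hp : p ∉ I) (hI : P.Good I) (hJ : P.Good (I.erase q)) : Link P where
  p := p
  q := q
  I := I
  adj := h
  q_mem := hq
  p_notMem := hp
  good := hI
  comm := by
    intro g hg he a ha
    obtain ⟨u, hu, c, y, hy, hx⟩ := decomp hq (π_gam hg) he
    obtain ⟨y', hy', hπy⟩ := hJ.surj y hy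
    obtain ⟨z, hz, hπz⟩ := S_lift (P := P) q (x := tv (eI q) c) (by
      rw [fixPairs_eq_tvGroup]; exact tv_mem_tvGroup (eI_mem_co (by simp)) _)
    have hcy := gam_commute_M h (fun e => hp (Finset.mem_of_mem_erase e))
      (Finset.notMem_erase q I) hy' ha
    obtain ⟨w, hw, hπw, hcw⟩ : ∃ w ∈ P.gam I, P.π w = sh (eI q) u 1 ∧ Commute w a := by
      by_cases hu0 : u = 0
      · exact ⟨1, one_mem _, by rw [map_one, hu0, sh_zero_right], Commute.one_left a⟩
      have hrJ : r ∈ I.erase q := Finset.mem_erase.2 ⟨h'.ne.symm, hr⟩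
      obtain ⟨t, ht, htu⟩ := exists_move (eI_mem_co (F := F) hrJ) hu (eI_ne_zero r) hu0
      rw [← fixPairs_eq_tvGroup] at ht
      obtain ⟨t', ht', hπt⟩ := hJ.surj t ht
      obtain ⟨b, hb, hπb⟩ := M_lift (P := P) h' (x := sh (eI q) (eI r) 1)
        (by simpa using sh_mem_mTv q r (1 : F) 1 1)
      have hct := gam_commute_M h (fun e => hp (Finset.mem_of_mem_erase e))
        (Finset.notMem_erase q I) ht' ha
      have htI := gam_mono (Finset.erase_subset q I) ht'
      refine ⟨t' * b * t'⁻¹, mul_mem (mul_mem htI (M_le_gam hq hr h' hb)) (inv_mem htI), ?_,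
        (hct.mul_left (commute_MM h' h hb ha)).mul_left hct.inv_left⟩
      rw [map_mul, map_mul, map_inv, hπt, hπb, conj_sh, htu,
        (mem_fixPairs.1 ht q (by simp)).1]
    have : g = w * z * y' := hI.single.eq hg
      (mul_mem (mul_mem hw (S_le_gam hq hz)) (gam_mono (Finset.erase_subset q I) hy'))
      (by rw [map_mul, map_mul, hπw, hπz, hπy, hx])
    rw [this]
    exact (hcw.mul_left (commute_tv_M h hz hπz ha)).mul_left hcy

end Sys

namespace Link

variable {P : Sys F m G} (L : Link P)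

/-- the vectors supported on the pairs of the link -/
abbrev V : Submodule F (Vec m F) := supp (co L.I)

/-- the subgroup generated by the edge and the rank one group at `q` -/
abbrev K2 : Subgroup G := P.M L.p L.q ⊔ P.S L.q

/-- the subgroup generated by the edge and the rank one group at `p` -/
abbrev K1 : Subgroup G := P.M L.p L.q ⊔ P.S L.p

theorem ne : L.p ≠ L.q := L.adj.ne

theorem K2_single : Single P.π L.K2 := P.singleMS _ L.adj

theorem K1_single : Single P.π L.K1 := P.singleMS _ L.adj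

theorem exists_m0 : ∃ g ∈ P.M L.p L.q, P.π g = sh (eI L.p) (eI L.q) (1 : F) :=
  Sys.M_lift L.adj (by simpa using sh_mem_mTv L.p L.q (1 : F) 1 1)

/-- the root element of the edge -/
noncomputable def m0 : G := L.exists_m0.choose

theorem m0_mem : L.m0 ∈ P.M L.p L.q := L.exists_m0.choose_spec.1

theorem π_m0 : P.π L.m0 = sh (eI L.p) (eI L.q) (1 : F) := L.exists_m0.choose_spec.2

open Classical in
/-- the lift of `sh (e p) u` -/
noncomputable def mm (u : Vec m F) : G :=
  if h : ∃ g ∈ P.gam L.I, P.π g • (eI L.q : Vec m F) = u then h.choose * L.m0 * h.choose⁻¹ else 1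

theorem mm_spec {u : Vec m F} {g : G} (hg : g ∈ P.gam L.I)
    (hu : P.π g • (eI L.q : Vec m F) = u) : L.mm u = g * L.m0 * g⁻¹ := by
  have h : ∃ g ∈ P.gam L.I, P.π g • (eI L.q : Vec m F) = u := ⟨g, hg, hu⟩
  rw [mm, dif_pos h]
  obtain ⟨hg', hu'⟩ := h.choose_spec
  generalize h.choose = g' at hg' hu'
  have hk : P.π (g⁻¹ * g') • (eI L.q : Vec m F) = eI L.q := by
    rw [map_mul, map_inv, mul_smul, hu', inv_smul_eq_iff, hu]
  have hc := L.comm _ (mul_mem (inv_mem hg) hg') hk _ L.m0_mem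
  calc g' * L.m0 * g'⁻¹ = g * (g⁻¹ * g' * L.m0) * g'⁻¹ := by group
    _ = g * (L.m0 * (g⁻¹ * g')) * g'⁻¹ := by rw [hc.eq]
    _ = g * L.m0 * g⁻¹ := by group

theorem mm_zero : L.mm 0 = 1 := by
  rw [mm, dif_neg]
  rintro ⟨g, -, h⟩
  exact smul_ne_zero_of_ne_zero _ (eI_ne_zero L.q) h

theorem exists_g {u : Vec m F} (hu : u ∈ L.V) (h0 : u ≠ 0) :
    ∃ g ∈ P.gam L.I, P.π g • (eI L.q : Vec m F) = u := by
  obtain ⟨t, ht, htu⟩ := exists_move (eI_mem_co (F := F) L.q_mem) hu (eI_ne_zero _) h0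
  rw [← fixPairs_eq_tvGroup] at ht
  obtain ⟨g, hg, hπ⟩ := L.good.surj t ht
  exact ⟨g, hg, by rw [hπ, htu]⟩

theorem fix_p {g : G} (hg : g ∈ P.gam L.I) :
    P.π g • (eI L.p : Vec m F) = eI L.p ∧ P.π g • (fI L.p : Vec m F) = fI L.p :=
  Sys.fix_of_gam hg L.p_notMem

theorem π_mm {u : Vec m F} (hu : u ∈ L.V) : P.π (L.mm u) = sh (eI L.p) u 1 := by
  by_cases h0 : u = 0
  · rw [h0, L.mm_zero, map_one, sh_zero_right]
  obtain ⟨g, hg, hgu⟩ := L.exists_g hu h0
  rw [L.mm_spec hg hgu, map_mul, map_mul, map_inv, L.π_m0, conj_sh, hgu, (L.fix_p hg).1]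

theorem mem_V_smul {g : G} (hg : g ∈ P.gam L.I) {u : Vec m F} (hu : u ∈ L.V) :
    P.π g • u ∈ L.V := smul_mem_supp (Sys.π_gam hg) hu

theorem mm_conj {g : G} (hg : g ∈ P.gam L.I) {u : Vec m F} (hu : u ∈ L.V) :
    g * L.mm u * g⁻¹ = L.mm (P.π g • u) := by
  by_cases h0 : u = 0
  · rw [h0, smul_zero, L.mm_zero]; group
  obtain ⟨t, ht, htu⟩ := L.exists_g hu h0
  rw [L.mm_spec ht htu, L.mm_spec (mul_mem hg ht) (by rw [map_mul, mul_smul, htu])]
  group

theorem orth_p {u : Vec m F} (hu : u ∈ L.V) :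
    sympForm m F (eI L.p) u = 0 ∧ sympForm m F (fI L.p) u = 0 :=
  sympForm_eI_supp (mem_co.2 L.p_notMem) hu

theorem eq_mem_V {v : Vec m F} (hv : v ∈ supp (co {L.q})) : v ∈ L.V :=
  mem_co_singleton L.q_mem hv

theorem e_mem : (eI L.q : Vec m F) ∈ supp (co {L.q}) := eI_mem_co (by simp)

theorem f_mem : (fI L.q : Vec m F) ∈ supp (co {L.q}) := fI_mem_co (by simp)

theorem mm_mem_K2 {x : Vec m F} (hx : x ∈ supp (co {L.q})) : L.mm x ∈ L.K2 := by
  by_cases h0 : x = 0
  · rw [h0, L.mm_zero]; exact one_mem _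
  obtain ⟨t, ht, htu⟩ := exists_move L.e_mem hx (eI_ne_zero _) h0
  rw [← fixPairs_eq_tvGroup] at ht
  obtain ⟨g, hg, hπ⟩ := Sys.S_lift (P := P) L.q ht
  rw [L.mm_spec (Sys.S_le_gam L.q_mem hg) (by rw [hπ, htu])]
  exact mul_mem (mul_mem (Subgroup.mem_sup_right hg) (Subgroup.mem_sup_left L.m0_mem))
    (inv_mem (Subgroup.mem_sup_right hg))

theorem mm_smul_mem_M (c : F) : L.mm (c • eI L.q) ∈ P.M L.p L.q := by
  have hx : c • (eI L.q : Vec m F) ∈ supp (co {L.q}) := Submodule.smul_mem _ _ L.e_mem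
  obtain ⟨a, ha, hπ⟩ := Sys.M_lift (P := P) L.adj
    (x := sh (eI L.p) (c • eI L.q) (1 : F)) (by simpa using sh_mem_mTv L.p L.q (1 : F) c 1)
  rw [← L.K2_single.eq (Subgroup.mem_sup_left ha) (L.mm_mem_K2 hx)
    (by rw [hπ, L.π_mm (L.eq_mem_V hx)])]
  exact ha

theorem exists_T (c : F) : ∃ g ∈ P.S L.p, P.π g = tv (eI L.p) c :=
  Sys.S_lift L.p (by rw [fixPairs_eq_tvGroup]; exact tv_mem_tvGroup (eI_mem_co (by simp)) _)

/-- the lift of the transvections at `e p` -/
noncomputable def T (c : F) : G := (L.exists_T c).choose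

theorem T_mem_S (c : F) : L.T c ∈ P.S L.p := (L.exists_T c).choose_spec.1

theorem π_T (c : F) : P.π (L.T c) = tv (eI L.p) c := (L.exists_T c).choose_spec.2

theorem T_mem_M (c : F) : L.T c ∈ P.M L.p L.q := by
  obtain ⟨a, ha, hπ⟩ := Sys.M_lift (P := P) L.adj (tv_left_mem_mTv L.p L.q c)
  rw [L.K1_single.eq (Subgroup.mem_sup_right (L.T_mem_S c)) (Subgroup.mem_sup_left ha)
    (by rw [hπ, L.π_T])]
  exact ha

theorem T_commute_gam (c : F) {g : G} (hg : g ∈ P.gam L.I) : Commute g (L.T c) :=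
  Sys.gam_commute_S L.p_notMem hg (L.T_mem_S c)

theorem T_commute_mm (c : F) (u : Vec m F) : Commute (L.mm u) (L.T c) := by
  rw [mm]
  split_ifs with h
  · exact ((L.T_commute_gam c h.choose_spec.1).mul_left
      (Sys.commute_MM L.adj L.adj L.m0_mem (L.T_mem_M c))).mul_left
      (L.T_commute_gam c h.choose_spec.1).inv_left
  · exact Commute.one_left _

theorem T_mul (a b : F) : L.T a * L.T b = L.T (a + b) :=
  (Sys.single_S L.p).eq (mul_mem (L.T_mem_S a) (L.T_mem_S b)) (L.T_mem_S _)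
    (by rw [map_mul, L.π_T, L.π_T, L.π_T, tv_mul_tv])

theorem T_zero : L.T 0 = 1 :=
  (Sys.single_S L.p).eq (L.T_mem_S 0) (one_mem _) (by rw [L.π_T, tv_zero, map_one])

theorem π_mm_mul {u v : Vec m F} (hu : u ∈ L.V) (hv : v ∈ L.V) :
    P.π (L.mm u * L.mm v) = P.π (L.mm (u + v) * L.T (sympForm m F v u)) := by
  rw [map_mul, map_mul, L.π_mm hu, L.π_mm hv, L.π_mm (add_mem hu hv), L.π_T,
    sh_mul_sh (L.orth_p hu).1 (L.orth_p hv).1]

theorem mm_mul_K2 {x y : Vec m F} (hx : x ∈ supp (co {L.q})) (hy : y ∈ supp (co {L.q})) :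
    L.mm x * L.mm y = L.mm (x + y) * L.T (sympForm m F y x) :=
  L.K2_single.eq (mul_mem (L.mm_mem_K2 hx) (L.mm_mem_K2 hy))
    (mul_mem (L.mm_mem_K2 (add_mem hx hy)) (Subgroup.mem_sup_left (L.T_mem_M _)))
    (L.π_mm_mul (L.eq_mem_V hx) (L.eq_mem_V hy))

theorem mm_line {u : Vec m F} (hu : u ∈ L.V) (c d : F) :
    L.mm (c • u) * L.mm (d • u) = L.mm ((c + d) • u) := by
  by_cases h0 : u = 0
  · simp [h0, L.mm_zero]
  obtain ⟨g, hg, hgu⟩ := L.exists_g hu h0
  have h : ∀ a : F, L.mm (a • u) = g * L.mm (a • eI L.q) * g⁻¹ := fun a => by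
    rw [L.mm_conj hg (L.eq_mem_V (Submodule.smul_mem _ _ L.e_mem)), smul_comm, hgu]
  have h2 := L.mm_mul_K2 (Submodule.smul_mem _ c L.e_mem) (Submodule.smul_mem _ d L.e_mem)
  rw [sympForm_smul_left, sympForm_smul_right, sympForm_self, mul_zero, mul_zero, L.T_zero,
    mul_one, ← add_smul] at h2
  rw [h, h, h, ← h2]
  group

theorem mm_comm_line {u : Vec m F} (hu : u ∈ L.V) (c d : F) :
    Commute (L.mm (c • u)) (L.mm (d • u)) := by
  show _ * _ = _ * _
  rw [L.mm_line hu, L.mm_line hu, add_comm]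

end Link

end Cfsg.Agent.SpAmalgam18
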