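import Cfsg.Agent.SpAmalgam18.Key
import Cfsg.Agent.SpAmalgam18.Cover

/-!
Adding a pair to a chain of at least two pairs.
-/

set_option autoImplicit false

namespace Cfsg.Agent.SpAmalgam18

open Cfsg Cfsg.Agent.Symplectic

variable {m : ℕ} {F : Type*} [Field F] {G : Type*} [Group G]

namespace Link

variable {P : Sys F m G} {L : Link P} {h : L.Additive}

theorem mm_mem_gam_insert {u : Vec m F} (hu : u ∈ L.V) :
    L.mm u ∈ P.gam (insert L.p L.I) := by
  have hsub := Finset.subset_insert L.p L.I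
  by_cases h0 : u = 0
  · rw [h0, L.mm_zero]; exact one_mem _
  obtain ⟨t, ht, htu⟩ := L.exists_g hu h0
  rw [L.mm_spec ht htu]
  exact mul_mem (mul_mem (Sys.gam_mono hsub ht) (Sys.M_le_gam (Finset.mem_insert_self _ _)
    (Finset.mem_insert_of_mem L.q_mem) L.adj L.m0_mem)) (inv_mem (Sys.gam_mono hsub ht))

theorem Q_le_gam : L.Q h ≤ P.gam (insert L.p L.I) := by
  rintro _ ⟨u, hu, c, g, hg, rfl⟩
  exact mul_mem (mul_mem (mm_mem_gam_insert hu) (Sys.S_le_gam (Finset.mem_insert_self _ _)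
    (L.T_mem_S c))) (Sys.gam_mono (Finset.subset_insert _ _) hg)

theorem π_mm_eI {u : Vec m F} (hu : u ∈ L.V) :
    P.π (L.mm u) • (eI L.p : Vec m F) = eI L.p := by
  rw [L.π_mm hu, sh_smul (L.orth_p hu).1, (L.orth_p hu).1, sympForm_self]
  module

theorem Q_fix {z : G} (hz : z ∈ L.Q h) : P.π z • (eI L.p : Vec m F) = eI L.p := by
  obtain ⟨u, hu, c, g, hg, rfl⟩ := hz
  rw [map_mul, map_mul, mul_smul, mul_smul, (L.fix_p hg).1, L.π_T,
    tv_smul_of_orth c (sympForm_self _), π_mm_eI hu]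

theorem π_mm_point {u : Vec m F} (hu : u ∈ L.V) (a b : F) :
    P.π (L.mm u) • (a • (eI L.p : Vec m F) + b • fI L.p) = a • eI L.p + b • fI L.p + b • u := by
  rw [smul_add, smul_comm (P.π _), smul_comm (P.π _), π_mm_eI hu, L.π_mm hu,
    sh_smul (L.orth_p hu).1, (L.orth_p hu).2, sympForm_fI_eI]
  module

end Link

section

variable {P : Sys F m G} {L : Link P} (R : Inner L)

theorem Inner.r_ne_p : R.r ≠ L.p := fun e => L.p_notMem (e ▸ R.r_mem)

include R in
theorem Inner.additive : L.Additive := fun _ hu _ hv => R.mm_mul hu hv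

variable (h12 : P.Good {L.p, L.q})

theorem pair_erase : ({L.p, L.q} : Finset (Fin m)).erase L.q = {L.p} := by
  ext i
  have := L.ne
  constructor
  · intro h
    simp only [Finset.mem_erase, Finset.mem_insert, Finset.mem_singleton] at h ⊢
    exact h.2.resolve_right h.1
  · intro h; rw [Finset.mem_singleton] at h; subst h; simp [L.ne]

/-- the link in the opposite direction -/
def Inner.mirror : Link P :=
  Sys.linkStep P (p := R.r) (q := L.q) (r := L.p) R.adj.symm L.adj.symm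
    (Finset.mem_insert_of_mem (Finset.mem_singleton_self _)) (Finset.mem_insert_self _ _)
    (by simp [R.r_ne_p, R.adj.ne.symm]) h12 (by rw [pair_erase]; exact Sys.good_singleton _)

/-- the inner edge of the mirror link -/
def Inner.mirrorInner : Inner (R.mirror h12) where
  r := L.p
  adj := L.adj.symm
  r_mem := Finset.mem_insert_self _ _
  good := by
    show P.Good (({L.p, L.q} : Finset (Fin m)).erase L.q)
    rw [pair_erase]; exact Sys.good_singleton _
  three := R.three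

theorem Inner.mirror_eq (α : F) :
    (R.mirror h12).mm (α • eI L.p) = L.mm (α • eI R.r) := by
  set A := R.mirror h12
  set R' := R.mirrorInner h12
  set X := L.mm (α • eI L.q)
  set Y := A.mm (fI L.q)
  have hne := L.ne
  have hX : X ∈ P.M L.p L.q := L.mm_smul_mem_M α
  have hXg : X ∈ P.gam A.I := Sys.M_le_gam (Finset.mem_insert_self _ _)
    (Finset.mem_insert_of_mem (Finset.mem_singleton_self _)) L.adj hX
  have h1 : R'.a α = X := by
    refine (Sys.single_M L.adj).eq ?_ hX ?_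
    · have := R'.a_mem_M α
      rw [P.M_symm L.adj]; exact this
    · rw [R'.π_a, L.π_mm (L.eq_mem_V (Submodule.smul_mem _ _ L.e_mem))]
      exact sh_swap_smul (sympForm_eI_eI L.q L.p) α
  have e1 : A.mm (α • eI L.p) = X * Y * X⁻¹ * Y⁻¹ := by
    have := R'.mm_er_eq α 1
    rw [mul_one, one_smul, h1] at this
    exact this
  have e2 : L.mm (α • eI R.r) =
      R.a 1 * L.mm (α • fI L.q) * (R.a 1)⁻¹ * (L.mm (α • fI L.q))⁻¹ := by
    have := R.mm_er_eq 1 α
    rwa [one_mul] at this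
  obtain ⟨w, hw, hwS, he, hf, hr⟩ := R.exists_w
  have hB : w * L.mm (α • fI L.q) * w⁻¹ = X⁻¹ := by
    rw [L.mm_conj hw (L.eq_mem_V (Submodule.smul_mem _ _ L.f_mem)), smul_comm, hf, smul_neg,
      R.additive.mm_inv (L.eq_mem_V (Submodule.smul_mem _ _ L.e_mem))]
  have hA : w * R.a 1 * w⁻¹ = Y := by
    have hwK : w ∈ A.K2 := Subgroup.mem_sup_right hwS
    have haK : R.a 1 ∈ A.K2 := Subgroup.mem_sup_left (by
      show R.a 1 ∈ P.M R.r L.q
      rw [← P.M_symm R.adj]; exact R.a_mem_M 1)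
    refine A.K2_single.eq (mul_mem (mul_mem hwK haK) (inv_mem hwK)) (A.mm_mem_K2 A.f_mem) ?_
    show P.π _ = P.π (A.mm (fI A.q))
    rw [A.π_mm (A.eq_mem_V A.f_mem), map_mul, map_mul, map_inv, R.π_a, one_smul, conj_sh, he, hr]
    exact sh_comm (sympForm_fI_eI_of_ne R.adj.ne)
  have hfixr : w * L.mm (α • eI R.r) * w⁻¹ = L.mm (α • eI R.r) := by
    rw [L.mm_conj hw (R.er_smul_mem α), smul_comm, hr]
  have e3 : L.mm (α • eI R.r) = X⁻¹ * A.mm (α • eI L.p) * X := by
    rw [← hfixr, e2, e1, show w * (R.a 1 * L.mm (α • fI L.q) * (R.a 1)⁻¹ *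
        (L.mm (α • fI L.q))⁻¹) * w⁻¹ = (w * R.a 1 * w⁻¹) * (w * L.mm (α • fI L.q) * w⁻¹) *
        (w * R.a 1 * w⁻¹)⁻¹ * (w * L.mm (α • fI L.q) * w⁻¹)⁻¹ by group, hA, hB]
    group
  have hp : (α • eI L.p : Vec m F) ∈ A.V :=
    Submodule.smul_mem _ _ (eI_mem_co (Finset.mem_insert_self _ _))
  have := A.mm_conj (inv_mem hXg) hp
  rw [inv_inv, map_inv, smul_comm, inv_smul_eq_iff.2 (L.π_mm_eI (L.eq_mem_V
    (Submodule.smul_mem _ α L.e_mem))).symm] at this
  rw [e3, this]

theorem gam_pair_commute {g k : G} (hg : g ∈ P.gam (L.I.erase L.q))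
    (hk : k ∈ P.gam {L.p, L.q}) : Commute g k := by
  have hp : L.p ∉ L.I.erase L.q := fun e => L.p_notMem (Finset.mem_of_mem_erase e)
  have hq : L.q ∉ L.I.erase L.q := Finset.notMem_erase _ _
  suffices P.gam {L.p, L.q} ≤ Subgroup.centralizer {g} from
    (Subgroup.mem_centralizer_singleton_iff.1 (this hk)).symm
  refine Sys.gam_le (fun j hj x hx => Subgroup.mem_centralizer_singleton_iff.2 ?_)
    fun i hi j hj hij x hx => Subgroup.mem_centralizer_singleton_iff.2 ?_
  · refine (Sys.gam_commute_S ?_ hg hx).symm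
    rcases Finset.mem_insert.1 hj with rfl | hj
    · exact hp
    · rw [Finset.mem_singleton.1 hj]; exact hq
  · refine (Sys.gam_commute_M hij ?_ ?_ hg hx).symm
    · rcases Finset.mem_insert.1 hi with rfl | hi
      · exact hp
      · rw [Finset.mem_singleton.1 hi]; exact hq
    · rcases Finset.mem_insert.1 hj with rfl | hj
      · exact hp
      · rw [Finset.mem_singleton.1 hj]; exact hq

include R h12 in
theorem Inner.conj_mem_Q {k : G} (hk : k ∈ P.gam {L.p, L.q})
    (hb : (P.π k • (eI L.p : Vec m F)) (Sum.inr L.p) = 0)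
    {z : Vec m F} (hz : z ∈ supp (co (L.I.erase L.q))) :
    k⁻¹ * L.mm z * k ∈ L.Q R.additive := by
  by_cases hz0 : z = 0
  · rw [hz0, L.mm_zero]; simp
  have hrJ : R.r ∈ L.I.erase L.q := Finset.mem_erase.2 ⟨R.adj.ne.symm, R.r_mem⟩
  obtain ⟨t, ht, htz⟩ := exists_move (eI_mem_co (F := F) hrJ) hz (eI_ne_zero R.r) hz0
  rw [← fixPairs_eq_tvGroup] at ht
  obtain ⟨g, hgJ, hπ⟩ := R.good.surj t ht
  have hg := Sys.gam_mono (Finset.erase_subset L.q L.I) hgJ
  have hmz : L.mm z = g * L.mm (eI R.r) * g⁻¹ := by rw [L.mm_conj hg R.er_mem, hπ, htz]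
  have hc := gam_pair_commute hgJ hk
  suffices k⁻¹ * L.mm (eI R.r) * k ∈ L.Q R.additive by
    rw [hmz, show k⁻¹ * (g * L.mm (eI R.r) * g⁻¹) * k =
      (k⁻¹ * g) * L.mm (eI R.r) * (g⁻¹ * k) by group, ← (hc.inv_right).eq, hc.inv_left.eq,
      show g * k⁻¹ * L.mm (eI R.r) * (k * g⁻¹) = g * (k⁻¹ * L.mm (eI R.r) * k) * g⁻¹ by group]
    exact mul_mem (mul_mem (Link.gam_le_Q hg) this) (inv_mem (Link.gam_le_Q hg))
  set A := R.mirror h12
  have hAe : (eI L.p : Vec m F) ∈ A.V := eI_mem_co (Finset.mem_insert_self _ _)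
  have he := R.mirror_eq h12 1
  rw [one_smul, one_smul] at he
  have hc2 := A.mm_conj (inv_mem (show k ∈ P.gam A.I from hk)) hAe
  rw [inv_inv] at hc2
  rw [← he, hc2]
  have hv : P.π k⁻¹ • (eI L.p : Vec m F) ∈ A.V := A.mem_V_smul (inv_mem (show k ∈ P.gam A.I from hk)) hAe
  obtain ⟨x, hx, hdec⟩ := exists_split (q := L.p) hv
  have hb' : (P.π k⁻¹ • (eI L.p : Vec m F)) (Sum.inr L.p) = 0 := by
    rw [← sympForm_eI_right L.p (P.π k⁻¹ • (eI L.p : Vec m F)), ← sympForm_smul_smul (P.π k), map_inv, smul_inv_smul,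
      sympForm_eI_left, hb, neg_zero]
  rw [hb', zero_smul, add_zero] at hdec
  set α := (P.π k⁻¹ • (eI L.p : Vec m F)) (Sum.inl L.p)
  have hx' : x ∈ supp (co {L.q}) := by
    have : (({L.p, L.q} : Finset (Fin m)).erase L.p) = {L.q} :=
      Finset.erase_insert (by simpa using L.ne)
    rw [← this]; exact hx
  have hadd := (R.mirrorInner h12).mm_mul (u := α • eI L.p) (v := x)
    (Submodule.smul_mem _ _ hAe) (A.eq_mem_V hx')
  rw [← hdec, R.mirror_eq h12 α] at hadd
  rw [eq_mul_inv_of_mul_eq hadd.symm]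
  refine mul_mem (mul_mem (Link.mm_mem_Q (R.er_smul_mem α)) (Link.gam_le_Q ?_))
    (inv_mem (Link.gam_le_Q (Sys.S_le_gam R.r_mem (A.T_mem_S _))))
  have hK : A.K2 ≤ P.gam L.I := sup_le (Sys.M_le_gam R.r_mem L.q_mem R.adj.symm)
    (Sys.S_le_gam L.q_mem)
  exact hK (A.mm_mem_K2 hx')

include R h12 in
/-- Adding the pair `p` to a chain of at least two pairs. -/
theorem Inner.good_step (honly : ∀ j ∈ L.I, Adj L.p j → j = L.q) :
    P.Good (insert L.p L.I) := by
  set Γ := P.gam {L.p, L.q}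
  have hp2 : L.p ∈ ({L.p, L.q} : Finset (Fin m)) := Finset.mem_insert_self _ _
  have hq2 : L.q ∈ ({L.p, L.q} : Finset (Fin m)) :=
    Finset.mem_insert_of_mem (Finset.mem_singleton_self _)
  have hK2 : L.K2 ≤ Γ := sup_le (Sys.M_le_gam hp2 hq2 L.adj) (Sys.S_le_gam hq2)
  have hTΓ : ∀ c, L.T c ∈ Γ := fun c => Sys.S_le_gam hp2 (L.T_mem_S c)
  have hstab : ∀ k ∈ Γ, P.π k • (eI L.p : Vec m F) = eI L.p → k ∈ L.Q R.additive := by
    intro k hk he
    obtain ⟨u, hu, c, y, hy, hx⟩ := decomp hp2 (Sys.π_gam hk) he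
    have her : ({L.p, L.q} : Finset (Fin m)).erase L.p = {L.q} :=
      Finset.erase_insert (by simpa using L.ne)
    rw [her] at hu hy
    obtain ⟨g, hg, hπ⟩ := Sys.S_lift (P := P) L.q hy
    rw [h12.single.eq hk (mul_mem (mul_mem (hK2 (L.mm_mem_K2 hu)) (hTΓ c)) (Sys.S_le_gam hq2 hg))
      (by rw [map_mul, map_mul, L.π_mm (L.eq_mem_V hu), L.π_T, hπ, hx])]
    exact ⟨u, L.eq_mem_V hu, c, g, Sys.S_le_gam L.q_mem hg, rfl⟩
  refine L.good_insert (h := R.additive) honly
    {x | ∃ g ∈ P.gam L.I, ∃ k ∈ Γ, ∃ z ∈ L.Q R.additive, x = g * k * z} ?_ ?_ ?_ ?_ ?_ ?_ ?_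
  · rintro _ ⟨g, hg, k, hk, z, hz, rfl⟩
    refine mul_mem (mul_mem (Sys.gam_mono (Finset.subset_insert _ _) hg)
      (Sys.gam_mono ?_ hk)) (Link.Q_le_gam hz)
    intro i hi
    rcases Finset.mem_insert.1 hi with rfl | hi
    · exact Finset.mem_insert_self _ _
    · rw [Finset.mem_singleton.1 hi]; exact Finset.mem_insert_of_mem L.q_mem
  · exact ⟨1, one_mem _, 1, one_mem _, 1, one_mem _, by simp⟩
  · rintro x hx _ ⟨g, hg, k, hk, z, hz, rfl⟩
    refine ⟨g, hg, x * k, mul_mem (Sys.S_le_gam hp2 hx) hk, z, hz, ?_⟩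
    calc x * (g * k * z) = x * g * k * z := by group
      _ = g * x * k * z := by rw [(Sys.gam_commute_S L.p_notMem hg hx).eq]
      _ = g * (x * k) * z := by group
  · rintro x hx _ ⟨g, hg, k, hk, z, hz, rfl⟩
    exact ⟨x * g, mul_mem hx hg, k, hk, z, hz, by group⟩
  · rintro u hu _ ⟨g, hg, k, hk, z, hz, rfl⟩
    have key : ∀ u ∈ L.V, ∃ g' ∈ P.gam L.I, ∃ k' ∈ Γ, ∃ z' ∈ L.Q R.additive,
        L.mm u * k = g' * k' * z' := by
      intro u hu
      have hv := smul_mem_supp (Sys.π_gam hk) (eI_mem_co (F := F) hp2)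
      obtain ⟨x, hx, hdec⟩ := exists_split (q := L.p) hv
      rw [show ({L.p, L.q} : Finset (Fin m)).erase L.p = {L.q} from
        Finset.erase_insert (by simpa using L.ne)] at hx
      set a := (P.π k • (eI L.p : Vec m F)) (Sum.inl L.p)
      set b := (P.π k • (eI L.p : Vec m F)) (Sum.inr L.p) with hbdef
      by_cases hb : b = 0
      · obtain ⟨z0, hz0, hu2⟩ := exists_split (q := L.q) hu
        set x' : Vec m F := u (Sum.inl L.q) • eI L.q + u (Sum.inr L.q) • fI L.q
        have hx' : x' ∈ supp (co {L.q}) :=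
          add_mem (Submodule.smul_mem _ _ L.e_mem) (Submodule.smul_mem _ _ L.f_mem)
        have hadd := R.additive z0 (supp_co_erase_le hz0) x' (L.eq_mem_V hx')
        rw [show z0 + x' = u by rw [add_comm, ← hu2]] at hadd
        set k' := L.mm x' * (L.T (sympForm m F x' z0))⁻¹ * k
        have hk' : k' ∈ Γ := mul_mem (mul_mem (hK2 (L.mm_mem_K2 hx')) (inv_mem (hTΓ _))) hk
        have hb' : (P.π k' • (eI L.p : Vec m F)) (Sum.inr L.p) = 0 := by
          have hxo := L.orth_p (L.eq_mem_V hx')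
          rw [hdec, hb, zero_smul, add_zero] at hv
          simp only [k', map_mul, map_inv, mul_smul]
          rw [hdec, hb, zero_smul, add_zero, L.π_T, tv_inv,
            tv_smul_of_orth _ (by rw [sympForm_add_left, sympForm_smul_left, sympForm_self,
              sympForm_eI_right, (hx L.p (by simp [L.ne])).2, mul_zero, add_zero]),
            L.π_mm (L.eq_mem_V hx'), sh_smul hxo.1]
          simp [sympForm_add_left, sympForm_smul_left, sympForm_eI_right,
            (hx L.p (by simp [L.ne])).2, (hx' L.p (by simp [L.ne])).2, eI]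
        refine ⟨1, one_mem _, k', hk', k'⁻¹ * L.mm z0 * k', R.conj_mem_Q h12 hk' hb' hz0, ?_⟩
        rw [eq_mul_inv_of_mul_eq hadd.symm]
        simp only [k']
        group
      · have hu0 : b⁻¹ • x ∈ L.V := Submodule.smul_mem _ _ (L.eq_mem_V hx)
        have hne : a • (eI L.p : Vec m F) + b • fI L.p ≠ 0 := fun h => hb (by
          simpa [eI, fI] using congrArg (fun v : Vec m F => v (Sum.inr L.p)) h)
        obtain ⟨t, ht, hte⟩ := exists_move (S := co {L.p}) (eI_mem_co (F := F) (by simp))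
          (add_mem (Submodule.smul_mem _ _ (eI_mem_co (by simp)))
            (Submodule.smul_mem _ _ (fI_mem_co (by simp)))) (eI_ne_zero L.p) hne
        rw [← fixPairs_eq_tvGroup] at ht
        obtain ⟨s, hs, hπs⟩ := Sys.S_lift (P := P) L.p ht
        have hm : L.mm (b⁻¹ • x) ∈ Γ := hK2 (L.mm_mem_K2 (Submodule.smul_mem _ _ hx))
        set κ := s⁻¹ * (L.mm (b⁻¹ • x))⁻¹ * k with hκ
        have hκQ : κ ∈ L.Q R.additive := by
          refine hstab κ (mul_mem (mul_mem (inv_mem (Sys.S_le_gam hp2 hs)) (inv_mem hm)) hk) ?_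
          simp only [hκ, map_mul, map_inv, mul_smul, inv_smul_eq_iff]
          rw [hπs, hte, L.π_mm_point hu0, smul_smul, mul_inv_cancel₀ hb, one_smul]
          exact hdec
        have hadd := R.additive u hu _ hu0
        set c := sympForm m F (b⁻¹ • x) u
        have hu_eq : L.mm u * k = L.mm (u + b⁻¹ • x) * L.T c * s * κ := by
          rw [← hadd, hκ]; group
        rw [hu_eq]
        have hwV := add_mem hu hu0
        by_cases hw0 : u + b⁻¹ • x = 0
        · rw [hw0, L.mm_zero, one_mul]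
          exact ⟨1, one_mem _, L.T c * s, mul_mem (hTΓ c) (Sys.S_le_gam hp2 hs), κ, hκQ,
            by group⟩
        obtain ⟨g', hg', hgu⟩ := L.exists_g hwV hw0
        rw [L.mm_spec hg' hgu]
        have hc : Commute g'⁻¹ (L.T c * s) := (Sys.gam_commute_S L.p_notMem hg'
          (mul_mem (L.T_mem_S c) hs)).inv_left
        refine ⟨g', hg', L.m0 * (L.T c * s),
          mul_mem (Sys.M_le_gam hp2 hq2 L.adj L.m0_mem) (mul_mem (hTΓ c) (Sys.S_le_gam hp2 hs)),
          g'⁻¹ * κ, mul_mem (inv_mem (Link.gam_le_Q hg')) hκQ, ?_⟩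
        calc g' * L.m0 * g'⁻¹ * L.T c * s * κ = g' * L.m0 * (g'⁻¹ * (L.T c * s)) * κ := by group
          _ = g' * L.m0 * (L.T c * s * g'⁻¹) * κ := by rw [hc.eq]
          _ = g' * (L.m0 * (L.T c * s)) * (g'⁻¹ * κ) := by group
    obtain ⟨g', hg', k', hk', z', hz', he⟩ := key _ (L.mem_V_smul (inv_mem hg) hu)
    refine ⟨g * g', mul_mem hg hg', k', hk', z' * z, mul_mem hz' hz, ?_⟩
    have h1 := L.mm_conj (inv_mem hg) hu
    rw [inv_inv] at h1
    rw [← h1] at he
    calc L.mm u * (g * k * z) = g * (g⁻¹ * L.mm u * g * k) * z := by group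
      _ = g * (g' * k' * z') * z := by rw [he]
      _ = g * g' * k' * (z' * z) := by group
  · rintro _ ⟨g, hg, k, hk, z, hz, rfl⟩ hye
    rw [map_mul, map_mul, mul_smul, mul_smul, Link.Q_fix hz] at hye
    have hke : P.π k • (eI L.p : Vec m F) = eI L.p :=
      MulAction.injective (P.π g) (hye.trans (L.fix_p hg).1.symm)
    exact mul_mem (mul_mem (Link.gam_le_Q hg) (hstab k hk hke)) hz
  · intro v hv hv0
    obtain ⟨v', hv', hdec⟩ := exists_split (q := L.p) hv
    rw [Finset.erase_insert L.p_notMem] at hv'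
    set a := v (Sum.inl L.p)
    set b := v (Sum.inr L.p)
    have hP : ∀ x ∈ supp (co {L.q}), a • (eI L.p : Vec m F) + b • fI L.p + x ∈
        supp (co ({L.p, L.q} : Finset (Fin m))) := fun x hx => by
      refine add_mem (add_mem (Submodule.smul_mem _ _ (eI_mem_co hp2))
        (Submodule.smul_mem _ _ (fI_mem_co hp2))) (mem_co_singleton hq2 hx)
    by_cases hv0' : v' = 0
    · rw [hv0', add_zero] at hdec
      obtain ⟨t, ht, hte⟩ := exists_move (eI_mem_co (F := F) hp2)
        (by simpa using hP 0 (zero_mem _)) (eI_ne_zero L.p) (hdec ▸ hv0)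
      rw [← fixPairs_eq_tvGroup] at ht
      obtain ⟨k, hk, hπ⟩ := h12.surj t ht
      exact ⟨k, ⟨1, one_mem _, k, hk, 1, one_mem _, by simp⟩, by rw [hπ, hte, ← hdec]⟩
    · obtain ⟨g, hg, hgv⟩ := L.exists_g hv' hv0'
      have hne : a • (eI L.p : Vec m F) + b • fI L.p + eI L.q ≠ 0 := fun h => by
        simpa [eI, fI, L.ne, L.ne.symm] using
          congrArg (fun v : Vec m F => v (Sum.inl L.q)) h
      obtain ⟨t, ht, hte⟩ := exists_move (eI_mem_co (F := F) hp2) (hP _ L.e_mem)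
        (eI_ne_zero L.p) hne
      rw [← fixPairs_eq_tvGroup] at ht
      obtain ⟨k, hk, hπ⟩ := h12.surj t ht
      refine ⟨g * k, ⟨g, hg, k, hk, 1, one_mem _, by simp⟩, ?_⟩
      rw [map_mul, mul_smul, hπ, hte, smul_add, smul_add, smul_comm (P.π g), smul_comm (P.π g),
        (L.fix_p hg).1, (L.fix_p hg).2, hgv, ← hdec]

end

end Cfsg.Agent.SpAmalgam18
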