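import Cfsg.Agent.Lib.Symplectic.Perfect

/-!
Amalgams over the symplectic group: a group with a projection to `Sp`, subgroups over the rank one
subgroups of the coordinate pairs and over the small abelian groups of the edges `{i, i + 1}`, such
that the projection is injective on the subgroup generated by any two of them.
-/

set_option autoImplicit false

namespace Cfsg.Agent.SpAmalgam18

open Cfsg Cfsg.Agent.Symplectic

variable {m : ℕ} {F : Type*} [Field F]

/-- neighbouring coordinate pairs -/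
def Adj (i j : Fin m) : Prop := (i : ℕ) + 1 = j ∨ (j : ℕ) + 1 = i

theorem Adj.symm {i j : Fin m} (h : Adj i j) : Adj j i := Or.symm h

theorem Adj.ne {i j : Fin m} (h : Adj i j) : i ≠ j := fun e => by
  subst e; rcases h with h | h <;> omega

/-- the pairs other than those in `I` -/
abbrev co (I : Finset (Fin m)) : Finset (Fin m) := Finset.univ \ I

theorem mem_co {I : Finset (Fin m)} {i : Fin m} : i ∈ co I ↔ i ∉ I := by simp

theorem sympForm_fI_eI_of_ne {i j : Fin m} (h : i ≠ j) :
    sympForm m F (fI i) (eI j) = (0 : F) := by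
  rw [sympForm_swap, sympForm_eI_fI_of_ne h.symm, neg_zero]

theorem eq_one_of_fix {g : Sp m F}
    (h : ∀ i, g • (eI i : Vec m F) = eI i ∧ g • (fI i : Vec m F) = fI i) : g = 1 := by
  have := (mem_fixPairs (S := Finset.univ)).2 fun i _ => h i
  rwa [fixPairs_univ, Subgroup.mem_bot] at this

theorem eq_of_fix {g h : Sp m F}
    (hh : ∀ i, g • (eI i : Vec m F) = h • eI i ∧ g • (fI i : Vec m F) = h • fI i) : g = h := by
  have : g⁻¹ * h = 1 := eq_one_of_fix fun i => by
    rw [mul_smul, mul_smul, inv_smul_eq_iff, inv_smul_eq_iff]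
    exact ⟨(hh i).1.symm, (hh i).2.symm⟩
  exact inv_mul_eq_one.1 this

theorem eq_sum_basis (v : Vec m F) :
    v = ∑ i, (v (Sum.inl i) • eI i + v (Sum.inr i) • fI i) := by
  funext k
  rcases k with k | k <;>
    simp [eI, fI, Finset.sum_apply, Pi.single_apply]

theorem smul_eq_self_of_mem_supp {S : Finset (Fin m)} {g : Sp m F} (hg : g ∈ fixPairs S)
    {v : Vec m F} (hv : v ∈ supp (co S)) : g • v = v := by
  conv_lhs => rw [eq_sum_basis v]
  conv_rhs => rw [eq_sum_basis v]
  rw [Finset.smul_sum]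
  refine Finset.sum_congr rfl fun i _ => ?_
  by_cases hi : i ∈ S
  · rw [smul_add, smul_comm g, smul_comm g, (mem_fixPairs.1 hg i hi).1, (mem_fixPairs.1 hg i hi).2]
  · rw [(hv i (mem_co.2 hi)).1, (hv i (mem_co.2 hi)).2]
    simp

theorem fixPairs_commute {S T : Finset (Fin m)} {a b : Sp m F} (hST : ∀ i, i ∈ S ∨ i ∈ T)
    (ha : a ∈ fixPairs S) (hb : b ∈ fixPairs T) : Commute a b := by
  refine eq_of_fix fun i => ?_
  by_cases hS : i ∈ S
  · obtain ⟨he, hf⟩ := mem_fixPairs.1 ha i hS
    simp only [mul_smul, he, hf]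
    by_cases hT : i ∈ T
    · obtain ⟨he', hf'⟩ := mem_fixPairs.1 hb i hT
      rw [he', hf', he, hf]; exact ⟨rfl, rfl⟩
    · have h : ∀ v : Vec m F, v ∈ supp T → a • v = v := fun v hv =>
        smul_eq_self_of_mem_supp ha fun k hk => hv k ((hST k).resolve_left (mem_co.1 hk))
      exact ⟨h _ (smul_mem_supp hb (eI_mem_supp hT)), h _ (smul_mem_supp hb (fI_mem_supp hT))⟩
  · have hT := (hST i).resolve_left hS
    obtain ⟨he', hf'⟩ := mem_fixPairs.1 hb i hT
    simp only [mul_smul, he', hf']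
    have h : ∀ v : Vec m F, v ∈ supp S → b • v = v := fun v hv =>
      smul_eq_self_of_mem_supp hb fun k hk => hv k ((hST k).resolve_right (mem_co.1 hk))
    exact ⟨(h _ (smul_mem_supp ha (eI_mem_supp hS))).symm,
      (h _ (smul_mem_supp ha (fI_mem_supp hS))).symm⟩

theorem conj_sh (g : Sp m F) (u v : Vec m F) (a : F) :
    g * sh u v a * g⁻¹ = sh (g • u) (g • v) a := by
  simp only [sh, ← smul_add g, ← conj_tv g]
  group

theorem tv_commute {u v : Vec m F} (h : sympForm m F u v = 0) (a b : F) :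
    Commute (tv u a) (tv v b) := by
  have h2 := conj_tv (tv u a) v b
  rw [tv_smul_of_orth a (show sympForm m F v u = 0 by rw [sympForm_swap, h, neg_zero])] at h2
  exact mul_inv_eq_iff_eq_mul.1 h2

/-- the transvections with centre in the span of `e i` and `e j` -/
def mTv (i j : Fin m) : Subgroup (Sp m F) :=
  Subgroup.closure {g | ∃ a b c : F, g = tv (a • eI i + b • eI j) c}

theorem tv_mem_mTv (i j : Fin m) (a b c : F) :
    tv (a • eI i + b • eI j) c ∈ mTv (F := F) i j :=
  Subgroup.subset_closure ⟨a, b, c, rfl⟩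

theorem mTv_symm (i j : Fin m) : mTv (F := F) i j = mTv j i := by
  unfold mTv
  congr 1
  ext g
  constructor <;> rintro ⟨a, b, c, rfl⟩ <;> exact ⟨b, a, c, by rw [add_comm]⟩

theorem tv_left_mem_mTv (i j : Fin m) (c : F) : tv (eI i) c ∈ mTv (F := F) i j := by
  simpa using tv_mem_mTv i j 1 0 c

theorem tv_right_mem_mTv (i j : Fin m) (c : F) : tv (eI j) c ∈ mTv (F := F) i j := by
  simpa using tv_mem_mTv i j 0 1 c

theorem sh_mem_mTv (i j : Fin m) (a b c : F) :
    sh (a • eI i) (b • eI j) c ∈ mTv (F := F) i j := by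
  refine mul_mem (mul_mem (tv_mem_mTv i j a b c) ?_) ?_
  · simpa using tv_mem_mTv i j a 0 (-c)
  · simpa using tv_mem_mTv i j 0 b (-c)

theorem mTv_fix_eI {i j : Fin m} {g : Sp m F} (hg : g ∈ mTv i j) (k : Fin m) :
    g • (eI k : Vec m F) = eI k := by
  have : mTv (F := F) i j ≤ MulAction.stabilizer (Sp m F) (eI k : Vec m F) := by
    rw [mTv, Subgroup.closure_le]
    rintro _ ⟨a, b, c, rfl⟩
    refine MulAction.mem_stabilizer_iff.2 (tv_smul_of_orth c ?_)
    simp [sympForm_add_right, sympForm_smul_right]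
  exact this hg

theorem mTv_le_fixPairs (i j : Fin m) : mTv (F := F) i j ≤ fixPairs (co {i, j}) := by
  rw [fixPairs_eq_tvGroup, mTv, Subgroup.closure_le]
  rintro _ ⟨a, b, c, rfl⟩
  refine tv_mem_tvGroup (add_mem (Submodule.smul_mem _ _ (eI_mem_supp ?_))
    (Submodule.smul_mem _ _ (eI_mem_supp ?_))) c <;> simp

theorem mTv_commute {i j k l : Fin m} {x y : Sp m F} (hx : x ∈ mTv i j) (hy : y ∈ mTv k l) :
    Commute x y := by
  have key : ∀ z ∈ mTv (F := F) k l, ∀ w ∈ {g : Sp m F | ∃ a b c : F,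
      g = tv (a • eI i + b • eI j) c}, Commute w z := by
    intro z hz
    induction hz using Subgroup.closure_induction with
    | mem z hz =>
      rintro _ ⟨a, b, c, rfl⟩
      obtain ⟨a', b', c', rfl⟩ := hz
      exact tv_commute (by simp [sympForm_add_right, sympForm_add_left, sympForm_smul_right,
        sympForm_smul_left]) c c'
    | one => exact fun w _ => Commute.one_right w
    | mul _ _ _ _ h1 h2 => exact fun w hw => (h1 w hw).mul_right (h2 w hw)
    | inv _ _ h1 => exact fun w hw => (h1 w hw).inv_right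
  induction hx using Subgroup.closure_induction with
  | mem w hw => exact key y hy w hw
  | one => exact Commute.one_left y
  | mul _ _ _ _ h1 h2 => exact h1.mul_left h2
  | inv _ _ h1 => exact h1.inv_left

variable {G : Type*} [Group G]

/-- injectivity of the projection on a subgroup -/
def Single (π : G →* Sp m F) (K : Subgroup G) : Prop := ∀ g ∈ K, π g = 1 → g = 1

variable (F) in
/-- An amalgam over `Sp`. -/
structure Sys (m : ℕ) (G : Type*) [Group G] where
  π : G →* Sp m F
  S : Fin m → Subgroup G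
  M : Fin m → Fin m → Subgroup G
  M_symm : ∀ {i j}, Adj i j → M i j = M j i
  mapS : ∀ j, (S j).map π = fixPairs (co {j})
  mapM : ∀ {i j}, Adj i j → (M i j).map π = mTv i j
  singleSS : ∀ {j l}, j ≠ l → Single π (S j ⊔ S l)
  singleMM : ∀ {i j k l}, Adj i j → Adj k l → Single π (M i j ⊔ M k l)
  singleMS : ∀ {i j} (l), Adj i j → Single π (M i j ⊔ S l)
  exists_ne : ∀ j : Fin m, ∃ l, j ≠ l

namespace Single

variable {π : G →* Sp m F} {K : Subgroup G}

theorem mono {L : Subgroup G} (h : Single π K) (hle : L ≤ K) : Single π L :=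
  fun g hg => h g (hle hg)

theorem eq (h : Single π K) {g g' : G} (hg : g ∈ K) (hg' : g' ∈ K) (he : π g = π g') : g = g' :=
  inv_mul_eq_one.1 (h _ (mul_mem (inv_mem hg) hg') (by rw [map_mul, map_inv, he, inv_mul_cancel]))

theorem commute (h : Single π K) {g g' : G} (hg : g ∈ K) (hg' : g' ∈ K)
    (he : Commute (π g) (π g')) : Commute g g' :=
  h.eq (mul_mem hg hg') (mul_mem hg' hg) (by rw [map_mul, map_mul]; exact he)

end Single

variable (P : Sys F m G)

/-- the subgroup generated by the pieces inside a set of pairs -/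
def Sys.gam (I : Finset (Fin m)) : Subgroup G :=
  (⨆ j ∈ I, P.S j) ⊔ ⨆ i ∈ I, ⨆ j ∈ I, ⨆ (_ : Adj i j), P.M i j

/-- the projection is a bijection from `gam I` onto the pointwise stabiliser of the other pairs -/
structure Sys.Good (I : Finset (Fin m)) : Prop where
  single : Single P.π (P.gam I)
  surj : ∀ x ∈ (fixPairs (co I) : Subgroup (Sp m F)), ∃ g ∈ P.gam I, P.π g = x

namespace Sys

variable {P} {I : Finset (Fin m)}

theorem S_le_gam {j : Fin m} (hj : j ∈ I) : P.S j ≤ P.gam I :=
  le_sup_of_le_left (le_iSup₂ (f := fun j (_ : j ∈ I) => P.S j) j hj)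

theorem M_le_gam {i j : Fin m} (hi : i ∈ I) (hj : j ∈ I) (h : Adj i j) : P.M i j ≤ P.gam I :=
  le_sup_of_le_right <| le_iSup₂_of_le i hi <| le_iSup₂_of_le j hj <| le_iSup_of_le h le_rfl

theorem gam_le {K : Subgroup G} (hS : ∀ j ∈ I, P.S j ≤ K)
    (hM : ∀ i ∈ I, ∀ j ∈ I, Adj i j → P.M i j ≤ K) : P.gam I ≤ K :=
  sup_le (iSup₂_le hS) (iSup₂_le fun i hi => iSup₂_le fun j hj => iSup_le (hM i hi j hj))

theorem gam_mono {J : Finset (Fin m)} (h : I ⊆ J) : P.gam I ≤ P.gam J :=
  gam_le (fun _ hj => S_le_gam (h hj)) fun _ hi _ hj ha => M_le_gam (h hi) (h hj) ha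

theorem π_S {j : Fin m} {g : G} (hg : g ∈ P.S j) : P.π g ∈ fixPairs (co {j}) := by
  rw [← P.mapS j]; exact Subgroup.mem_map_of_mem _ hg

theorem π_M {i j : Fin m} (h : Adj i j) {g : G} (hg : g ∈ P.M i j) : P.π g ∈ mTv i j := by
  rw [← P.mapM h]; exact Subgroup.mem_map_of_mem _ hg

theorem fixPairs_mono {S T : Finset (Fin m)} (h : S ⊆ T) :
    (fixPairs T : Subgroup (Sp m F)) ≤ fixPairs S :=
  fun _ hg => mem_fixPairs.2 fun i hi => mem_fixPairs.1 hg i (h hi)

theorem π_gam {g : G} (hg : g ∈ P.gam I) : P.π g ∈ fixPairs (co I) := by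
  suffices P.gam I ≤ (fixPairs (co I) : Subgroup (Sp m F)).comap P.π from this hg
  refine gam_le (fun j hj g hg => ?_) fun i hi j hj ha g hg => ?_
  · exact fixPairs_mono (fun x hx => mem_co.2 fun h => mem_co.1 hx (by
      rw [Finset.mem_singleton.1 h]; exact hj)) (π_S hg)
  · exact fixPairs_mono (fun x hx => mem_co.2 fun h => mem_co.1 hx (by
      rcases Finset.mem_insert.1 h with rfl | h
      · exact hi
      · rw [Finset.mem_singleton.1 h]; exact hj)) (mTv_le_fixPairs i j (π_M ha hg))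

theorem fix_of_gam {g : G} (hg : g ∈ P.gam I) {i : Fin m} (hi : i ∉ I) :
    P.π g • (eI i : Vec m F) = eI i ∧ P.π g • (fI i : Vec m F) = fI i :=
  mem_fixPairs.1 (π_gam hg) i (mem_co.2 hi)

theorem S_lift (j : Fin m) {x : Sp m F} (hx : x ∈ fixPairs (co {j})) :
    ∃ g ∈ P.S j, P.π g = x := by
  rw [← P.mapS j] at hx; exact hx

theorem M_lift {i j : Fin m} (h : Adj i j) {x : Sp m F} (hx : x ∈ mTv i j) :
    ∃ g ∈ P.M i j, P.π g = x := by
  rw [← P.mapM h] at hx; exact hx

theorem single_S (j : Fin m) : Single P.π (P.S j) := by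
  obtain ⟨l, hl⟩ := P.exists_ne j
  exact (P.singleSS hl).mono le_sup_left

theorem single_M {i j : Fin m} (h : Adj i j) : Single P.π (P.M i j) :=
  (P.singleMS i h).mono le_sup_left

theorem good_singleton (j : Fin m) : P.Good {j} := by
  have h : P.gam {j} = P.S j := le_antisymm
    (gam_le (fun l hl => by rw [Finset.mem_singleton.1 hl]) fun i hi l hl ha =>
      absurd ((Finset.mem_singleton.1 hi).trans (Finset.mem_singleton.1 hl).symm) ha.ne)
    (S_le_gam (Finset.mem_singleton_self j))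
  exact ⟨h ▸ single_S j, fun x hx => h ▸ S_lift j hx⟩

theorem commute_SS {j l : Fin m} (hjl : j ≠ l) {a b : G} (ha : a ∈ P.S j) (hb : b ∈ P.S l) :
    Commute a b := by
  exact (P.singleSS hjl).commute (Subgroup.mem_sup_left ha) (Subgroup.mem_sup_right hb)
    (fixPairs_commute (fun i => by
      by_cases h : i = j
      · right; subst h; simp [hjl]
      · left; simp [h]) (π_S ha) (π_S hb))

end Sys

end Cfsg.Agent.SpAmalgam18
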